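/-
Connected line-closed spanning sets of a symplectic space over the field with two elements.

Main definitions: `CT B S`.
Main results: `CT.nbr_reach`, `CT.all_of_pair`, `CT.trichotomy`.
-/
import Mathlib.LinearAlgebra.BilinearForm.Properties
import Mathlib.LinearAlgebra.QuadraticForm.Basic
import Mathlib.FieldTheory.Finite.Basic
import Mathlib.Algebra.CharP.Two
import Mathlib.Logic.Relation
import Cfsg.Agent.EqLemmas

set_option autoImplicit false

namespace Cfsg.Agent.FischerMain

open Relation

theorem z2_cases (x : ZMod 2) : x = 0 ∨ x = 1 := by revert x; decide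

theorem z2_eq_one {x : ZMod 2} (h : x ≠ 0) : x = 1 := (z2_cases x).resolve_left h

theorem z2_eq_zero {x : ZMod 2} (h : x ≠ 1) : x = 0 := (z2_cases x).resolve_right h

variable {V : Type*} [AddCommGroup V] [Module (ZMod 2) V]

theorem vadd_self (x : V) : x + x = 0 := by
  have h : (1 : ZMod 2) + 1 = 0 := by decide
  rw [← one_smul (ZMod 2) x, ← add_smul, h, zero_smul]

theorem vadd_cancel (x y : V) : x + (x + y) = y := by
  rw [← add_assoc, vadd_self, zero_add]

theorem eq_of_vadd {x y : V} (h : x + y = 0) : x = y := by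
  rw [← vadd_cancel x y, h, add_zero]

/-- The partition graph: two members are joined when they are not perpendicular. -/
def Link (B : LinearMap.BilinForm (ZMod 2) V) (S : Set V) (x y : V) : Prop :=
  x ∈ S ∧ y ∈ S ∧ B x y = 1

/-- A cotriangular set of a symplectic space. -/
structure CT (B : LinearMap.BilinForm (ZMod 2) V) (S : Set V) : Prop where
  alt : ∀ x, B x x = 0
  nondeg : ∀ x, (∀ y, B x y = 0) → x = 0
  zero : (0 : V) ∉ S
  span : Submodule.span (ZMod 2) S = ⊤
  closed : ∀ x ∈ S, ∀ y ∈ S, B x y = 1 → x + y ∈ S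
  conn : ∀ x ∈ S, ∀ y ∈ S, ReflTransGen (Link B S) x y

namespace CT

variable {B : LinearMap.BilinForm (ZMod 2) V} {S : Set V}

section

variable (h : CT B S)
include h

theorem symm (x y : V) : B x y = B y x := by
  have e := h.alt (x + y)
  simp only [map_add, LinearMap.add_apply, h.alt, zero_add, add_zero] at e
  exact (CharTwo.add_eq_zero.1 e).symm

theorem add_ne {x y : V} (he : B x y = 1) : x ≠ y := fun e => by simp [e, h.alt] at he

/-- A vector perpendicular to every member vanishes. -/
theorem eq_zero_of_perp {x : V} (hx : ∀ s ∈ S, B s x = 0) : x = 0 := by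
  refine h.nondeg x fun y => ?_
  have hy : y ∈ Submodule.span (ZMod 2) S := by rw [h.span]; exact Submodule.mem_top
  induction hy using Submodule.span_induction with
  | mem s hs => rw [h.symm]; exact hx s hs
  | zero => simp
  | add u v _ _ hu hv => simp [hu, hv]
  | smul c u _ hu => simp [hu]

theorem exists_link {x : V} (hx : x ≠ 0) : ∃ s ∈ S, B s x = 1 := by
  by_contra hcon
  exact hx (h.eq_zero_of_perp fun s hs => z2_eq_zero fun e => hcon ⟨s, hs, e⟩)

end

/-- The members perpendicular to `a`, other than `a`. -/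
def nb (B : LinearMap.BilinForm (ZMod 2) V) (S : Set V) (a : V) : Set V :=
  {b | b ∈ S ∧ b ≠ a ∧ B a b = 0}

variable (h : CT B S) {a : V}
include h

theorem shift (ha : a ∈ S) {z : V} (hz : z ∈ S) (he : B a z = 1) : z + a ∈ S ∧ B a (z + a) = 1 :=
  ⟨h.closed z hz a ha (by rw [h.symm]; exact he), by simp [h.alt, he]⟩

/-- Every perpendicular member meets some opposite one. -/
theorem exists_far (ha : a ∈ S) {b : V} (hb : b ∈ nb B S a) : ∃ z ∈ S, B a z = 1 ∧ B b z = 1 := by
  by_contra hcon
  have key : ∀ y, ReflTransGen (Link B S) b y → y ∈ nb B S a ∧ ∀ z ∈ S, B a z = 1 → B y z = 0 := by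
    intro y hy
    induction hy with
    | refl => exact ⟨hb, fun z hz h1 => z2_eq_zero fun h2 => hcon ⟨z, hz, h1, h2⟩⟩
    | @tail u v _ huv ih =>
      obtain ⟨⟨hu, hua, hau⟩, huz⟩ := ih
      obtain ⟨-, hv, he⟩ := huv
      have hav : B a v = 0 := z2_eq_zero fun e => by
        rw [huz v hv e] at he; exact zero_ne_one he
      have hva : v ≠ a := by
        rintro rfl
        rw [h.symm, hau] at he; exact zero_ne_one he
      refine ⟨⟨hv, hva, hav⟩, fun z hz h1 => z2_eq_zero fun h2 => ?_⟩
      have hm := h.closed v hv z hz h2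
      have h3 : B a (v + z) = 1 := by simp [hav, h1]
      have h4 := huz _ hm h3
      rw [map_add, he, huz z hz h1] at h4
      simp at h4
  exact (key a (h.conn b hb.1 a ha)).1.2.1 rfl

/-- Every perpendicular member is the sum of two opposite ones. -/
theorem exists_sum (ha : a ∈ S) {b : V} (hb : b ∈ nb B S a) :
    ∃ z ∈ S, z + b ∈ S ∧ B a z = 1 ∧ B a (z + b) = 1 ∧ B z (z + b) = 1 := by
  obtain ⟨z, hz, h1, h2⟩ := h.exists_far ha hb
  rw [h.symm] at h2
  exact ⟨z, hz, h.closed z hz b hb.1 h2, h1, by simp [h1, hb.2.2], by simp [h.alt, h2]⟩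

theorem exists_opp (ha : a ∈ S) : ∃ c ∈ S, B a c = 1 := by
  obtain ⟨c, hc, he⟩ := h.exists_link (x := a) fun e => h.zero (e ▸ ha)
  exact ⟨c, hc, by rw [h.symm]; exact he⟩

/-- A perpendicular member is linked to another perpendicular member. -/
theorem exists_nb (ha : a ∈ S) {u : V} (hu : u ∈ nb B S a) : ∃ v ∈ nb B S a, B u v = 1 := by
  by_contra hcon
  have hz : ∀ z ∈ S, ∀ z' ∈ S, B a z = 1 → B a z' = 1 → B u z = B u z' := by
    intro z hz z' hz' h1 h2
    have main : ∀ w ∈ S, B a w = 1 → B z w = 1 → B u z = B u w := by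
      intro w hw h3 h4
      have hm := h.closed z hz w hw h4
      by_cases he : z + w = a
      · have : w = z + a := by rw [← he, vadd_cancel]
        rw [this, map_add, h.symm u a, hu.2.2, add_zero]
      · have h5 : B u (z + w) = 0 := z2_eq_zero fun e =>
          hcon ⟨z + w, ⟨hm, he, by simp only [map_add, h1, h3]; decide⟩, e⟩
        rw [map_add] at h5
        exact CharTwo.add_eq_zero.1 h5
    rcases z2_cases (B z z') with e | e
    · obtain ⟨h3, h4⟩ := h.shift ha hz' h2
      rw [main _ h3 h4 (by simp [e, h.symm z a, h1]), map_add, h.symm u a, hu.2.2, add_zero]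
    · exact main z' hz' h2 e
  obtain ⟨z, hzS, h1, h2⟩ := h.exists_far ha hu
  apply hu.2.1
  refine eq_of_vadd (h.eq_zero_of_perp fun s hs => ?_)
  rw [map_add]
  rcases z2_cases (B a s) with e | e
  · have h3 : B u s = 0 := z2_eq_zero fun e' => by
      by_cases hsa : s = a
      · rw [hsa, h.symm, hu.2.2] at e'; exact zero_ne_one e'
      · exact hcon ⟨s, ⟨hs, hsa, e⟩, e'⟩
    rw [h.symm s u, h.symm s a, h3, e, add_zero]
  · rw [h.symm s u, h.symm s a, e, ← hz z hzS s hs h1 e, h2]
    decide

/-- The perpendicular members form one component. -/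
theorem nbr_reach (ha : a ∈ S) {u u' : V} (hu : u ∈ nb B S a) (hu' : u' ∈ nb B S a) :
    ReflTransGen (Link B (nb B S a)) u u' := by
  have sy : ∀ {x y : V}, ReflTransGen (Link B (nb B S a)) x y →
      ReflTransGen (Link B (nb B S a)) y x := by
    intro x y hxy
    induction hxy with
    | refl => exact .refl
    | tail _ hl ih => exact ih.head ⟨hl.2.1, hl.1, by rw [h.symm]; exact hl.2.2⟩
  have one : ∀ z ∈ S, B a z = 1 → ∀ u ∈ nb B S a, ∀ u' ∈ nb B S a, B z u = 1 → B z u' = 1 →
      ReflTransGen (Link B (nb B S a)) u u' := by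
    intro z hz h1 u hu u' hu' h2 h3
    rcases z2_cases (B u u') with e | e
    swap; · exact .single ⟨hu, hu', e⟩
    by_cases huu : u = u'
    · subst huu; exact .refl
    have hm1 := h.closed z hz u hu.1 h2
    have hm2 := h.closed z hz u' hu'.1 h3
    have hm3 := (h.shift ha hm2 (by simp [h1, hu'.2.2])).1
    have key : B (z + u) (z + u' + a) = 1 := by
      simp only [map_add, LinearMap.add_apply, h.alt, h3, h.symm u z, h2, e, h.symm z a, h1,
        h.symm u a, hu.2.2]
      decide
    have hs := h.closed _ hm1 _ hm3 key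
    have es : z + u + (z + u' + a) = u + u' + a := by
      rw [show z + u + (z + u' + a) = (z + z) + (u + u' + a) by abel, vadd_self, zero_add]
    rw [es] at hs
    have hsn : u + u' + a ∈ nb B S a :=
      ⟨hs, fun e' => huu (eq_of_vadd (by simpa using e')), by simp [hu.2.2, hu'.2.2, h.alt]⟩
    have step : ∀ x ∈ nb B S a, ∀ y ∈ nb B S a, u + u' + a = x + y + a →
        ReflTransGen (Link B (nb B S a)) x y ∨ ReflTransGen (Link B (nb B S a)) x (u + u' + a) := by
      intro x hx y hy exy
      obtain ⟨v, hv, hxv⟩ := h.exists_nb ha hx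
      rcases z2_cases (B v y) with e1 | e1
      · refine .inr ((ReflTransGen.single ⟨hx, hv, hxv⟩).tail ⟨hv, hsn, ?_⟩)
        rw [exy, map_add, map_add, h.symm v x, hxv, e1, h.symm v a, hv.2.2]
        decide
      · exact .inl ((ReflTransGen.single ⟨hx, hv, hxv⟩).tail ⟨hv, hy, e1⟩)
    rcases step u hu u' hu' rfl with r | r
    · exact r
    rcases step u' hu' u hu (by abel) with r' | r'
    · exact sy r'
    · exact r.trans (sy r')
  obtain ⟨z, hz, hzu, h1, h2, h3⟩ := h.exists_sum ha hu
  obtain ⟨z', hz', hzu', h1', h2', h3'⟩ := h.exists_sum ha hu'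
  rw [map_add, h.alt, zero_add] at h3 h3'
  have main : ∀ w ∈ S, B a w = 1 → B z w = 1 → (∀ x ∈ nb B S a, B z' x = 1 → B w x = 1) →
      ReflTransGen (Link B (nb B S a)) u u' := by
    intro w hw hw1 hw2 hcongr
    have hm := h.closed z hz w hw hw2
    by_cases he : z + w = a
    · have e : w = z + a := by rw [← he, vadd_cancel]
      refine one z hz h1 u hu u' hu' h3 ?_
      have e' := hcongr u' hu' h3'
      rw [e, map_add, LinearMap.add_apply, hu'.2.2, add_zero] at e'
      exact e'
    · have hb : z + w ∈ nb B S a := ⟨hm, he, by simp only [map_add, h1, hw1]; decide⟩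
      refine (one z hz h1 u hu _ hb h3 (by simp [h.alt, hw2])).trans ?_
      exact one w hw hw1 _ hb u' hu' (by simp [h.alt, h.symm w z, hw2]) (hcongr u' hu' h3')
  rcases z2_cases (B z z') with e | e
  · obtain ⟨hm, hm1⟩ := h.shift ha hz' h1'
    exact main _ hm hm1 (by simp [e, h.symm z a, h1]) fun x hx hx' => by simp [hx', hx.2.2]
  · exact main z' hz' h1' e fun x _ hx' => hx'

/-- The shifts of the opposite members of `c` by vectors perpendicular to `a` and `c`. -/
def coset (_h : CT B S) (a c : V) : Set V := {u | B a u = 0 ∧ B c u = 0 ∧ c + u ∈ S}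

theorem coset_zero {c : V} (hc : c ∈ S) : (0 : V) ∈ h.coset a c :=
  ⟨map_zero _, map_zero _, by simpa using hc⟩

theorem coset_lift (ha : a ∈ S) {c u : V} (hac : B a c = 1) (hu : u ∈ h.coset a c) (ε : ZMod 2) :
    c + ε • a + u ∈ S ∧ B a (c + ε • a + u) = 1 := by
  rcases z2_cases ε with rfl | rfl
  · simpa [hac, hu.1] using hu.2.2
  · have := h.shift ha hu.2.2 (by simp [hac, hu.1])
    rw [one_smul, show c + a + u = c + u + a by abel]
    exact this

/-- Two different shifts give a perpendicular member. -/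
theorem coset_pair (ha : a ∈ S) {c u v : V} (hac : B a c = 1) (hu : u ∈ h.coset a c)
    (hv : v ∈ h.coset a c) (huv : u ≠ v) : u + v + (1 + B u v) • a ∈ S := by
  obtain ⟨m1, -⟩ := h.coset_lift ha hac hu 0
  obtain ⟨m2, -⟩ := h.coset_lift ha hac hv (1 + B u v)
  have := h.closed _ m1 _ m2 (by
    simp only [zero_smul, add_zero, map_add, LinearMap.add_apply, map_smul, h.alt, hu.2.1, hv.2.1,
      h.symm u c, h.symm u a, hu.1, h.symm c a, hac, smul_eq_mul, mul_one, mul_zero]
    rcases z2_cases (B u v) with e | e <;> rw [e] <;> decide)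
  rwa [zero_smul, add_zero, show c + u + (c + (1 + B u v) • a + v) =
    (c + c) + (u + v + (1 + B u v) • a) by abel, vadd_self, zero_add] at this

/-- The coordinates of an opposite member. -/
theorem coset_of (ha : a ∈ S) {c z : V} (hac : B a c = 1) (hz : z ∈ S) (haz : B a z = 1) :
    z + c + B c z • a ∈ h.coset a c ∧ z = c + B c z • a + (z + c + B c z • a) := by
  refine ⟨⟨?_, ?_, ?_⟩, ?_⟩
  · simp only [map_add, map_smul, h.alt, hac, haz, smul_zero]; decide
  · simp [map_add, h.alt, h.symm c a, hac, CharTwo.add_self_eq_zero]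
  · rw [show c + (z + c + B c z • a) = (c + c) + (z + B c z • a) by abel, vadd_self, zero_add]
    rcases z2_cases (B c z) with e | e <;> rw [e]
    · simpa using hz
    · rw [one_smul]; exact (h.shift ha hz haz).1
  · rw [show c + B c z • a + (z + c + B c z • a) = (c + c) + (B c z • a + B c z • a) + z by abel,
      vadd_self, vadd_self, zero_add, zero_add]

/-- If some perpendicular pair sums to a member then every non-zero vector is a member. -/
theorem all_of_pair {b : V} (ha : a ∈ S) (hb : b ∈ nb B S a) (hab : b + a ∈ S) :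
    S = {x | x ≠ 0} := by
  have all : ∀ s ∈ nb B S a, s + a ∈ S := by
    intro s hs
    have := h.nbr_reach ha hb hs
    induction this with
    | refl => exact hab
    | @tail u v huv hl ih =>
      obtain ⟨hu, hv, e⟩ := hl
      have ihu := ih hu
      have e1 := h.closed _ hu.1 _ hv.1 e
      have e2 := h.closed _ e1 _ ihu (by simp [h.alt, e, h.symm v u, h.symm u a, hu.2.2, h.symm v a, hv.2.2])
      rwa [show u + v + (u + a) = (u + u) + (v + a) by abel, vadd_self, zero_add] at e2
  obtain ⟨c, hc, hac⟩ := h.exists_opp ha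
  have hca : B c a = 1 := by rw [h.symm]; exact hac
  let U := h.coset a c
  have tr : ∀ w, B a w = 0 → B c w = 0 → w ∈ S → w + a ∈ S → ∀ u ∈ U, u + w ∈ U := by
    intro w w1 w2 w4 w5 u hu
    refine ⟨by simp [hu.1, w1], by simp [hu.2.1, w2], ?_⟩
    rcases z2_cases (B u w) with e | e
    · have h1 := h.closed _ hu.2.2 _ w5 (by simp [e, w2, hca, h.symm u a, hu.1])
      have h2 := (h.shift ha h1 (by simp [hac, hu.1, w1, h.alt])).1
      rwa [show c + u + (w + a) + a = c + (u + w) + (a + a) by abel, vadd_self, add_zero] at h2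
    · have h1 := h.closed _ hu.2.2 _ w4 (by simp [e, w2])
      rwa [add_assoc] at h1
  let π : V → V := fun x => x + B a x • c + B c x • a
  have trS : ∀ s ∈ S, ∀ u ∈ U, u + π s ∈ U := by
    have trn : ∀ s ∈ nb B S a, ∀ u ∈ U, u + (s + B c s • a) ∈ U := by
      intro s hs
      refine tr _ (by simp [h.alt, hs.2.2]) (by simp [hca, CharTwo.add_self_eq_zero]) ?_ ?_ <;>
        rcases z2_cases (B c s) with e | e <;> rw [e]
      · simpa using hs.1
      · simpa using all s hs
      · simpa using all s hs
      · rw [one_smul, add_assoc, vadd_self, add_zero]; exact hs.1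
    intro s hs u hu
    rcases z2_cases (B a s) with e | e
    · by_cases hsa : s = a
      · subst hsa; simpa [π, h.alt, hca, vadd_self] using hu
      · simpa [π, e] using trn s ⟨hs, hsa, e⟩ u hu
    · obtain ⟨hv, -⟩ := h.coset_of ha hac hs e
      have ev : π s = s + c + B c s • a := by simp [π, e]
      rw [ev]
      set v := s + c + B c s • a
      by_cases hv0 : (0 : V) = v
      · rw [← hv0, add_zero]; exact hu
      have hp := h.coset_pair ha hac (h.coset_zero hc) hv hv0
      simp only [zero_add, map_zero, LinearMap.zero_apply, add_zero, one_smul] at hp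
      have := trn (v + a) ⟨hp, fun e' => hv0 (add_eq_right.1 e').symm, by simp [hv.1, h.alt]⟩ u hu
      simpa [hv.2.1, hca, add_assoc, vadd_self] using this
  have trV : ∀ x : V, ∀ u ∈ U, u + π x ∈ U := by
    intro x
    have hx : x ∈ Submodule.span (ZMod 2) S := by rw [h.span]; exact Submodule.mem_top
    induction hx using Submodule.span_induction with
    | mem s hs => exact trS s hs
    | zero => intro u hu; simpa [π] using hu
    | add p q _ _ hp hq =>
      intro u hu
      have := hq _ (hp u hu)
      convert this using 1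
      simp only [π, map_add, add_smul]; abel
    | smul k p _ hp =>
      intro u hu
      rcases z2_cases k with rfl | rfl
      · simpa [π] using hu
      · simpa using hp u hu
  have opp : ∀ x, B a x = 1 → x ∈ S := by
    intro x hx
    have hm := trV x 0 (h.coset_zero hc)
    rw [zero_add] at hm
    have h2 := (h.coset_lift ha hac hm (B c x)).1
    rwa [show c + B c x • a + π x = (c + c) + (B c x • a + B c x • a) + x by
      simp only [π, hx, one_smul]; abel, vadd_self, vadd_self, zero_add, zero_add] at h2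
  ext x
  refine ⟨fun hx e => h.zero (e ▸ hx), fun hx => ?_⟩
  rcases z2_cases (B a x) with e | e
  swap; · exact opp x e
  by_cases hxa : x = a
  · rw [hxa]; exact ha
  obtain ⟨y, hy1, hy2⟩ : ∃ y, B a y = 1 ∧ B x y = 1 := by
    obtain ⟨y, -, hy⟩ := h.exists_link hx
    rw [h.symm] at hy
    rcases z2_cases (B a y) with e1 | e1
    swap; · exact ⟨y, e1, hy⟩
    rcases z2_cases (B x c) with e2 | e2
    · exact ⟨c + y, by simp [hac, e1], by simp [e2, hy]⟩
    · exact ⟨c, hac, e2⟩
  have := h.closed _ (opp y hy1) _ (opp (x + y) (by simp [e, hy1]))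
    (by simp [h.alt, h.symm y x, hy2])
  rwa [show y + (x + y) = (y + y) + x by abel, vadd_self, zero_add] at this

omit h in
/-- The kernel of the two coordinates. -/
def perp2 (B : LinearMap.BilinForm (ZMod 2) V) (a c : V) : Submodule (ZMod 2) V :=
  LinearMap.ker (B a) ⊓ LinearMap.ker (B c)

omit h in
theorem mem_perp2 {c x : V} : x ∈ perp2 B a c ↔ B a x = 0 ∧ B c x = 0 := Iff.rfl

omit h in
/-- A symmetric pattern: the pairs of points of a finite set. -/
structure Pairs (B : LinearMap.BilinForm (ZMod 2) V) (S : Set V) {ι : Type*} (p : ι → V) : Prop where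
  eq : S = {x | ∃ i j, i ≠ j ∧ x = p i + p j}
  share : ∀ i j k, i ≠ j → i ≠ k → j ≠ k → B (p i + p j) (p i + p k) = 1
  apart : ∀ i j k l, i ≠ j → i ≠ k → i ≠ l → j ≠ k → j ≠ l → k ≠ l → B (p i + p j) (p k + p l) = 0

variable {c : V}

/-- The symmetric case. -/
theorem pairs_of_clique (ha : a ∈ S) (hc : c ∈ S) (hac : B a c = 1)
    (hcl : ∀ u ∈ h.coset a c, ∀ v ∈ h.coset a c, u ≠ 0 → v ≠ 0 → u ≠ v → B u v = 1) :
    ∃ p : Bool ⊕ ↥(h.coset a c) → V, Pairs B S p := by
  classical
  have hca : B c a = 1 := by rw [h.symm]; exact hac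
  let U := h.coset a c
  let d : U → ZMod 2 := fun u => if (u : V) = 0 then 1 else 0
  let p : Bool ⊕ U → V := fun i => match i with
    | .inl false => 0
    | .inl true => a
    | .inr u => c + d u • a + u
  let e : Bool ⊕ U → ZMod 2 := fun i => if i = .inl false then 0 else 1
  have hp : ∀ i j, i ≠ j → B (p i) (p j) = e i * e j := by
    have hau : ∀ u : U, B a (p (.inr u)) = 1 := fun u => by simp [p, h.alt, hac, u.2.1]
    rintro (_ | u) (_ | v) hij
    · rename_i b b'
      cases b <;> cases b' <;> simp_all [p, e]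
    · rename_i b
      cases b
      · simp [p, e]
      · simpa [e, p] using hau v
    · rename_i b
      cases b
      · simp [p, e]
      · simpa [e, p, h.symm _ a] using hau u
    · have hne : (u : V) ≠ v := fun e => hij (congrArg _ (Subtype.ext e))
      simp only [p, e, map_add, LinearMap.add_apply, map_smul, LinearMap.smul_apply, h.alt, hca, hac,
        u.2.1, v.2.1, h.symm (u : V) c, h.symm (u : V) a, u.2.2.1, v.2.2.1, u.2.1, smul_eq_mul,
        reduceCtorEq, if_false]
      by_cases hu : (u : V) = 0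
      · simp [d, hu, show (v : V) ≠ 0 from fun e => hne (hu.trans e.symm)]
      by_cases hv : (v : V) = 0
      · simp [d, hu, hv]
      simp [d, hu, hv, hcl _ u.2 _ v.2 hu hv hne]
  have he : ∀ i, e i = 0 → i = .inl false := fun i hi => by_contra fun e' => by simp [e, e'] at hi
  have two : ∀ i j, i ≠ j → e i = 1 ∨ e j = 1 := fun i j hij => by
    rcases z2_cases (e i) with e1 | e1
    · rcases z2_cases (e j) with e2 | e2
      · exact absurd ((he i e1).trans (he j e2).symm) hij
      · exact Or.inr e2
    · exact Or.inl e1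
  have share : ∀ i j k, i ≠ j → i ≠ k → j ≠ k → B (p i + p j) (p i + p k) = 1 := by
    intro i j k hij hik hjk
    have key : ∀ x y z : ZMod 2, (x = 1 ∨ y = 1) → (x = 1 ∨ z = 1) → (y = 1 ∨ z = 1) →
        x * z + (y * x + y * z) = 1 := by decide
    simp only [map_add, LinearMap.add_apply, h.alt, zero_add, hp i k hik, hp j i hij.symm, hp j k hjk]
    simpa [add_assoc, add_comm, add_left_comm] using key _ _ _ (two i j hij) (two i k hik) (two j k hjk)
  refine ⟨p, ?_, share, fun i j k l hij hik hil hjk hjl hkl => ?_⟩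
  swap
  · have key : ∀ x y z w : ZMod 2, (x = 1 ∨ y = 1) → (z = 1 ∨ w = 1) → ((x = 1 ∧ y = 1) ∨ (z = 1 ∧ w = 1)) →
        x * z + x * w + (y * z + y * w) = 0 := by decide
    have three : (e i = 1 ∧ e j = 1) ∨ (e k = 1 ∧ e l = 1) := by
      rcases two i k hik with e1 | e1 <;> rcases two j k hjk with e2 | e2 <;>
        rcases two i l hil with e3 | e3 <;> rcases two j l hjl with e4 | e4 <;> simp [e1, e2, e3, e4]
    simp only [map_add, LinearMap.add_apply, hp i k hik, hp i l hil, hp j k hjk, hp j l hjl]
    simpa [add_assoc, add_comm, add_left_comm] using key _ _ _ _ (two i j hij) (two k l hkl) three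
  have mem0 : ∀ u : U, p (.inr u) ∈ S := fun u => (h.coset_lift ha hac u.2 _).1
  have mem1 : ∀ i j, i ≠ j → p i + p j ∈ S := by
    intro i j hij
    have base : ∀ k, k ≠ .inl false → p k ∈ S := by
      rintro (_ | u) hk
      · rename_i b; cases b
        · exact absurd rfl hk
        · exact ha
      · exact mem0 u
    by_cases hi : i = .inl false
    · subst hi; simpa [p] using base j hij.symm
    by_cases hj : j = .inl false
    · subst hj; simpa [p] using base i hi
    refine h.closed _ (base i hi) _ (base j hj) ?_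
    rw [hp i j hij]; simp [e, hi, hj]
  ext x
  refine ⟨fun hx => ?_, by rintro ⟨i, j, hij, rfl⟩; exact mem1 i j hij⟩
  have opp : ∀ z ∈ S, B a z = 1 → ∃ i : U, z = p (.inr i) ∨ z = p (.inl true) + p (.inr i) := by
    intro z hz hz1
    obtain ⟨hu, hze⟩ := h.coset_of ha hac hz hz1
    refine ⟨⟨_, hu⟩, ?_⟩
    rcases z2_cases (B c z + d ⟨_, hu⟩) with e1 | e1
    · left
      rw [CharTwo.add_eq_zero] at e1
      show z = c + d ⟨_, hu⟩ • a + _
      rw [← e1]; exact hze
    · right
      have e2 : d ⟨_, hu⟩ = 1 + B c z := by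
        exact (show ∀ s t : ZMod 2, s + t = 1 → t = 1 + s by decide) _ _ e1
      show z = a + (c + d ⟨_, hu⟩ • a + _)
      rw [e2, add_smul, one_smul]
      conv_lhs => rw [hze]
      rw [show a + (c + (a + B c z • a) + (z + c + B c z • a)) =
        (a + a) + (c + B c z • a + (z + c + B c z • a)) by abel, vadd_self, zero_add]
  rcases z2_cases (B a x) with e1 | e1
  swap
  · obtain ⟨i, rfl | rfl⟩ := opp x hx e1
    · exact ⟨.inl false, .inr i, by simp, by simp [p]⟩
    · exact ⟨.inl true, .inr i, by simp, rfl⟩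
  by_cases hxa : x = a
  · exact ⟨.inl false, .inl true, by simp, by simp [p, hxa]⟩
  obtain ⟨z, hz, hz', h1, h2, h3⟩ := h.exists_sum ha (b := x) ⟨hx, hxa, e1⟩
  have hx' : x = z + (z + x) := (vadd_cancel z x).symm
  obtain ⟨i, hi⟩ := opp z hz h1
  obtain ⟨j, hj⟩ := opp _ hz' h2
  have hij : i ≠ j := by
    rintro rfl
    have : x = 0 ∨ x = a := by
      rw [hx']
      rcases hi with hi | hi <;> rcases hj with hj | hj <;> rw [hj, hi]
      · exact Or.inl (vadd_self _)
      · exact Or.inr (by simp only [p]; rw [add_left_comm, vadd_self, add_zero])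
      · exact Or.inr (by simp only [p]; rw [add_assoc, vadd_self, add_zero])
      · exact Or.inl (vadd_self _)
    exact this.elim (fun e' => h.zero (e' ▸ hx)) hxa
  refine ⟨.inr i, .inr j, by simp [hij], ?_⟩
  by_contra hne
  have hsum : x = p (.inr i) + p (.inr j) + a := by
    rw [hx'] at hne ⊢
    rcases hi with hi | hi <;> rcases hj with hj | hj <;> rw [hj, hi] at hne ⊢
    · exact absurd rfl hne
    · simp only [p]; abel
    · simp only [p]; abel
    · exfalso; apply hne
      rw [show p (.inl true) + p (.inr i) + (p (.inl true) + p (.inr j)) =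
        (p (.inl true) + p (.inl true)) + (p (.inr i) + p (.inr j)) by abel, vadd_self, zero_add]
  obtain ⟨hz1, hz2⟩ : z ∈ S ∧ z + x ∈ S := ⟨hz, hz'⟩
  have hb : B (p (.inr i)) (p (.inr j)) = 1 :=
    (hp (.inr i) (.inr j) (by simp [hij])).trans (by simp [e])
  have ea : ∀ k : U, B a (p (.inr k)) = 1 := fun k => by simp [p, h.alt, hac, k.2.1]
  rw [map_add, h.alt, zero_add] at h3
  have eb : B (p (.inr i)) a = 1 := by rw [h.symm]; exact ea i
  have pa : p (.inl true) = a := rfl
  have two0 : (1 : ZMod 2) + 1 = 0 := by decide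
  rcases hi with hi | hi <;> rw [hi, hsum] at h3 <;>
    simp [h.alt, hb, eb, ea, pa, two0] at h3

/-- The orthogonal case. -/
theorem form_of_pair (ha : a ∈ S) (hc : c ∈ S) (hac : B a c = 1)
    (hstar : ∀ b ∈ nb B S a, b + a ∉ S) {p q : V} (hp : p ∈ h.coset a c) (hq : q ∈ h.coset a c)
    (hp0 : p ≠ 0) (hq0 : q ≠ 0) (hpq : p ≠ q) (hB : B p q = 0) :
    ∃ Q : QuadraticForm (ZMod 2) V, (∀ x y, QuadraticMap.polar Q x y = B x y) ∧ S = {x | Q x = 1} := by
  classical
  have hca : B c a = 1 := by rw [h.symm]; exact hac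
  let W := perp2 B a c
  let π : V →ₗ[ZMod 2] V := LinearMap.id + (B a).smulRight c + (B c).smulRight a
  have πdef : ∀ x, π x = x + B a x • c + B c x • a := fun x => rfl
  have πW : ∀ x, π x ∈ W := fun x => mem_perp2.2
    ⟨by simp [πdef, h.alt, hac, CharTwo.add_self_eq_zero],
      by simp [πdef, h.alt, hca, CharTwo.add_self_eq_zero]⟩
  have dec : ∀ x, x = B a x • c + B c x • a + π x := fun x => by
    rw [πdef, show B a x • c + B c x • a + (x + B a x • c + B c x • a) =
      (B a x • c + B a x • c) + (B c x • a + B c x • a) + x by abel, vadd_self, vadd_self,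
      zero_add, zero_add]
  have pair0 : ∀ u ∈ h.coset a c, u ≠ 0 → u + a ∈ S := fun u hu h0 => by
    simpa using h.coset_pair ha hac (h.coset_zero hc) hu (Ne.symm h0)
  have addU : ∀ u ∈ h.coset a c, ∀ v ∈ h.coset a c, B u v = 0 → u + v ∈ h.coset a c := by
    intro u hu v hv e
    by_cases h0 : v = 0
    · simpa [h0] using hu
    refine ⟨by simp [hu.1, hv.1], by simp [hu.2.1, hv.2.1], ?_⟩
    have h1 := h.closed _ hu.2.2 _ (pair0 v hv h0)
      (by simp [e, hv.2.1, hca, h.symm u a, hu.1])
    have h2 := (h.shift ha h1 (by simp [hac, hu.1, hv.1, h.alt])).1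
    rwa [show c + u + (v + a) + a = c + (u + v) + (a + a) by abel, vadd_self, add_zero] at h2
  have πnb : ∀ s ∈ nb B S a, π s ≠ 0 := by
    intro s hs e
    rw [πdef, hs.2.2, zero_smul, add_zero] at e
    have e' := eq_of_vadd e
    rcases z2_cases (B c s) with e1 | e1 <;> rw [e1] at e'
    · exact h.zero (by rw [zero_smul] at e'; exact e' ▸ hs.1)
    · exact hs.2.1 (by rw [one_smul] at e'; exact e')
  let B' : LinearMap.BilinForm (ZMod 2) W := B.restrict W
  let SW : Set W := {w | ∃ s ∈ nb B S a, π s = w}
  have inU : ∀ w ∈ W, w + a ∈ S → w ∈ h.coset a c := by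
    intro w hw hwa
    obtain ⟨w1, w2⟩ := mem_perp2.1 hw
    refine ⟨w1, w2, ?_⟩
    have h1 := h.closed _ hc _ hwa (by simp [w2, hca])
    have h2 := (h.shift ha h1 (by simp [hac, w1, h.alt])).1
    rwa [show c + (w + a) + a = c + w + (a + a) by abel, vadd_self, add_zero] at h2
  have πB : ∀ x y, B a x = 0 → B a y = 0 → B (π x) (π y) = B x y := fun x y hx hy => by
    simp [πdef, hx, hy, h.alt, h.symm x a]
  have hW : CT B' SW := by
    refine ⟨fun x => h.alt x, fun x hx => ?_, ?_, ?_, ?_, ?_⟩
    · obtain ⟨x1, x2⟩ := mem_perp2.1 x.2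
      refine Subtype.ext (h.nondeg _ fun y => ?_)
      have : B x (π y) = 0 := hx ⟨π y, πW y⟩
      conv_lhs => rw [dec y]
      simp [this, h.symm (x : V) a, h.symm (x : V) c, x1, x2]
    · rintro ⟨s, hs, e⟩; exact πnb s hs e
    · have key : ∀ x, (⟨π x, πW x⟩ : W) ∈ Submodule.span (ZMod 2) SW := by
        intro x
        have hx : x ∈ Submodule.span (ZMod 2) S := by rw [h.span]; exact Submodule.mem_top
        induction hx using Submodule.span_induction with
        | mem s hs =>
          rcases z2_cases (B a s) with e | e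
          · by_cases hsa : s = a
            · have : π s = 0 := by simp [hsa, πdef, h.alt, hca, vadd_self]
              simp only [this]; exact zero_mem _
            · exact Submodule.subset_span ⟨s, ⟨hs, hsa, e⟩, rfl⟩
          · obtain ⟨hu, -⟩ := h.coset_of ha hac hs e
            have ev : π s = s + c + B c s • a := by simp [πdef, e]
            by_cases h0 : π s = 0
            · simp only [h0]; exact zero_mem _
            rw [← ev] at hu
            refine Submodule.subset_span ⟨π s + a, ⟨pair0 _ hu h0, fun e' => h0 (add_eq_right.1 e'),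
              by simp [hu.1, h.alt]⟩, ?_⟩
            show π (π s + a) = π s
            simp [πdef (π s + a), hu.1, hu.2.1, h.alt, hca, add_assoc, vadd_self]
        | zero => simp only [map_zero]; exact zero_mem _
        | add x y _ _ hx hy =>
          have := add_mem hx hy
          convert this using 1
          exact Subtype.ext (map_add π x y)
        | smul k x _ hx =>
          have := Submodule.smul_mem _ k hx
          convert this using 1
          exact Subtype.ext (map_smul π k x)
      refine eq_top_iff.2 fun w _ => ?_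
      have := key w
      obtain ⟨w1, w2⟩ := mem_perp2.1 w.2
      have e : π w = w := by simp [πdef, w1, w2]
      simpa [e] using this
    · rintro x ⟨s, hs, e1⟩ y ⟨t, ht, e2⟩ e
      have est : B s t = 1 := by
        rw [← πB s t hs.2.2 ht.2.2, e1, e2]; exact e
      refine ⟨s + t, ⟨h.closed _ hs.1 _ ht.1 est, fun e' => ?_, by simp [hs.2.2, ht.2.2]⟩, ?_⟩
      · have : B s (s + t) = 1 := by simp [h.alt, est]
        rw [e', h.symm, hs.2.2] at this
        exact zero_ne_one this
      · rw [map_add, e1, e2]; rfl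
    · rintro x ⟨s, hs, e1⟩ y ⟨t, ht, e2⟩
      let φ : V → W := fun v => ⟨π v, πW v⟩
      have hlink : ∀ u v, Link B (nb B S a) u v → Link B' SW (φ u) (φ v) := fun u v huv =>
        ⟨⟨u, huv.1, rfl⟩, ⟨v, huv.2.1, rfl⟩, (πB u v huv.1.2.2 huv.2.1.2.2).trans huv.2.2⟩
      have := (h.nbr_reach ha hs ht).lift φ hlink
      convert this using 1 <;> exact Subtype.ext (by first | exact e1.symm | exact e2.symm)
  have memW : ∀ u ∈ h.coset a c, u ∈ W := fun u hu => mem_perp2.2 ⟨hu.1, hu.2.1⟩
  have inSW : ∀ (u : V) (hu : u ∈ h.coset a c), u ≠ 0 → (⟨u, memW u hu⟩ : W) ∈ SW := fun u hu h0 =>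
    ⟨u + a, ⟨pair0 u hu h0, fun e' => h0 (add_eq_right.1 e'), by simp [hu.1, h.alt]⟩,
      by show π (u + a) = u; simp [πdef, hu.1, hu.2.1, h.alt, hca, add_assoc, vadd_self]⟩
  have allW := hW.all_of_pair (a := ⟨p, memW p hp⟩) (b := ⟨q, memW q hq⟩) (inSW p hp hp0)
    ⟨inSW q hq hq0, fun e => hpq (congrArg Subtype.val e).symm, hB⟩ (by
      have := inSW _ (addU q hq p hp (by rw [h.symm]; exact hB)) (fun e => hpq (eq_of_vadd e).symm)
      exact this)
  have uniq : ∀ w ∈ W, w ≠ 0 → w ∈ S → w + a ∉ S := fun w hw h0 hwS => by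
    refine hstar w ⟨hwS, fun e => ?_, (mem_perp2.1 hw).1⟩
    have := (mem_perp2.1 hw).2
    rw [e, hca] at this; exact one_ne_zero this
  let g : V → ZMod 2 := fun w => if w ∈ h.coset a c then 0 else 1
  have g0 : g 0 = 0 := by simp [g, h.coset_zero hc]
  have lift : ∀ w ∈ W, w ≠ 0 → w + (1 + g w) • a ∈ S := by
    intro w hw h0
    by_cases hu : w ∈ h.coset a c
    · simpa [g, hu] using pair0 w hu h0
    · have hm : (⟨w, hw⟩ : W) ∈ SW := by rw [allW]; exact fun e => h0 (congrArg Subtype.val e)
      obtain ⟨s, hs, e⟩ := hm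
      have e' : π s = w := e
      rw [πdef, hs.2.2, zero_smul, add_zero] at e'
      simp only [g, hu, if_false, show (1 : ZMod 2) + 1 = 0 from by decide, zero_smul, add_zero]
      rcases z2_cases (B c s) with e1 | e1 <;> rw [e1] at e'
      · rw [← e']; simpa using hs.1
      · refine absurd (inU w hw ?_) hu
        rw [← e', one_smul, add_assoc, vadd_self, add_zero]; exact hs.1
  have gval : ∀ w ∈ W, w ≠ 0 → ∀ ε : ZMod 2, w + ε • a ∈ S → g w = 1 + ε := by
    intro w hw h0 ε hε
    have hl := lift w hw h0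
    rcases z2_cases (g w) with e | e <;> rcases z2_cases ε with rfl | rfl <;> rw [e] at hl ⊢ <;>
      first
        | decide
        | exact absurd (by simpa [CharTwo.add_self_eq_zero] using hl) (uniq w hw h0 (by simpa using hε))
        | exact absurd (by simpa using hε) (uniq w hw h0 (by simpa [CharTwo.add_self_eq_zero] using hl))
  have gadd : ∀ x ∈ W, ∀ y ∈ W, g (x + y) = g x + g y + B x y := by
    intro x hx y hy
    by_cases h0 : x = 0
    · simp [h0, g0]
    by_cases h0' : y = 0
    · simp [h0', g0]
    by_cases hxy : x = y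
    · rw [hxy, vadd_self, g0, h.alt, CharTwo.add_self_eq_zero, add_zero]
    have hs0 : x + y ≠ 0 := fun e => hxy (eq_of_vadd e)
    obtain ⟨x1, x2⟩ := mem_perp2.1 hx
    obtain ⟨y1, y2⟩ := mem_perp2.1 hy
    rcases z2_cases (B x y) with e | e
    swap
    · have h1 := h.closed _ (lift x hx h0) _ (lift y hy h0')
        (by simp [e, h.alt, h.symm x a, x1, y1])
      rw [show x + (1 + g x) • a + (y + (1 + g y) • a) = x + y + (1 + g x + (1 + g y)) • a by
        rw [add_smul (1 + g x) (1 + g y) a]; abel] at h1
      rw [gval _ (add_mem hx hy) hs0 _ h1, e]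
      generalize g x = s; generalize g y = t; revert s t; decide
    rw [e, add_zero]
    have key : ∀ u ∈ h.coset a c, ∀ v ∈ h.coset a c, B u v = 0 → g (u + v) = g u + g v := by
      intro u hu v hv e'; simp [g, hu, hv, addU u hu v hv e']
    by_cases hxu : x ∈ h.coset a c
    · by_cases hyu : y ∈ h.coset a c
      · exact key x hxu y hyu e
      · have : x + y ∉ h.coset a c := fun hh => hyu (by
          have := addU x hxu _ hh (by simp [h.alt, e])
          rwa [vadd_cancel] at this)
        simp [g, hxu, hyu, this]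
    by_cases hyu : y ∈ h.coset a c
    · have : x + y ∉ h.coset a c := fun hh => hxu (by
        have := addU y hyu _ hh (by simp [h.alt, h.symm y x, e])
        rwa [add_comm x y, vadd_cancel] at this)
      simp [g, hxu, hyu, this]
    suffices x + y ∈ h.coset a c by simp [g, hxu, hyu, this, CharTwo.add_self_eq_zero]
    by_contra hs
    have no : ∀ u v, u ∈ W → v ∈ W → u ≠ 0 → v ≠ 0 → u ∉ h.coset a c → v ∉ h.coset a c →
        u + v ∉ h.coset a c → B u v = 0 → ∀ z ∈ h.coset a c, B z u = 1 → B z v = 1 → False := by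
      intro u v hu hv hu0 hv0 hu' hv' hsum e' z hz e1 e2
      have shiftU : ∀ t ∈ W, t ≠ 0 → t ∉ h.coset a c → B z t = 1 → t + z ∈ h.coset a c := by
        intro t ht ht0 ht' e3
        have hz0 : z ≠ 0 := fun e4 => by simp [e4] at e3
        obtain ⟨t1, t2⟩ := mem_perp2.1 ht
        have h1 := h.closed _ (lift t ht ht0) _ (pair0 z hz hz0)
          (by simp [h.symm t z, e3, h.alt, h.symm t a, t1, hz.1])
        simp only [g, ht', if_false, show (1 : ZMod 2) + 1 = 0 from by decide, zero_smul, add_zero] at h1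
        exact inU _ (add_mem ht (memW z hz)) (by rwa [add_assoc])
      have m := addU _ (shiftU u hu hu0 hu' e1) _ (shiftU v hv hv0 hv' e2)
        (by simp [e', h.alt, h.symm u z, e1, e2, CharTwo.add_self_eq_zero])
      rw [show u + z + (v + z) = u + v + (z + z) by abel, vadd_self, add_zero] at m
      exact hsum m
    refine h0 (h.eq_zero_of_perp fun s hs' => ?_)
    have hzx : ∀ z ∈ h.coset a c, B z x = 0 := fun z hz => z2_eq_zero fun e1 => by
      rcases z2_cases (B z y) with e2 | e2
      · exact no x (x + y) hx (add_mem hx hy) h0 hs0 hxu hs (by rwa [vadd_cancel])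
          (by simp [h.alt, e]) z hz e1 (by simp [e1, e2])
      · exact no x y hx hy h0 h0' hxu hyu hs e z hz e1 e2
    have hopp : ∀ z ∈ S, B a z = 1 → B z x = 0 := by
      intro z hz hz1
      obtain ⟨hu, hze⟩ := h.coset_of ha hac hz hz1
      conv_lhs => rw [hze]
      rw [map_add, LinearMap.add_apply, hzx _ hu]
      simp [x2, x1]
    rcases z2_cases (B a s) with e1 | e1
    · by_cases hsa : s = a
      · rw [hsa]; exact x1
      · obtain ⟨z, hz, hz', h1, h2, -⟩ := h.exists_sum ha (b := s) ⟨hs', hsa, e1⟩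
        have := hopp _ hz' h2
        rwa [map_add, LinearMap.add_apply, hopp z hz h1, zero_add] at this
    · exact hopp s hs' e1
  let f : V → ZMod 2 := fun x => B a x + B c x + B a x * B c x + g (π x)
  have fadd : ∀ x y, f (x + y) = f x + f y + B x y := by
    intro x y
    have e1 := gadd (π x) (πW x) (π y) (πW y)
    have e2 : B x y = B a x * B c y + B c x * B a y + B (π x) (π y) := by
      obtain ⟨p1, p2⟩ := mem_perp2.1 (πW x)
      obtain ⟨q1, q2⟩ := mem_perp2.1 (πW y)
      conv_lhs => rw [dec x, dec y]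
      simp [h.alt, hac, hca, q1, q2, h.symm (π x) a, h.symm (π x) c, p1, p2]
    simp only [f, map_add, e1, e2]
    generalize g (π x) = s1; generalize g (π y) = s2; generalize B a x = s3; generalize B a y = s4
    generalize B c x = s5; generalize B c y = s6; generalize B (π x) (π y) = s7
    revert s1 s2 s3 s4 s5 s6 s7; decide
  have pol : ∀ x y, QuadraticMap.polar f x y = B x y := fun x y => by
    rw [QuadraticMap.polar, fadd]; ring
  let Q : QuadraticForm (ZMod 2) V := QuadraticMap.ofPolar f
    (fun k x => by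
      rcases z2_cases k with rfl | rfl
      · simp [f, g0]
      · simp)
    (fun x x' y => by simp [pol])
    (fun k x y => by simp [pol])
  refine ⟨Q, pol, ?_⟩
  ext x
  show x ∈ S ↔ f x = 1
  obtain ⟨p1, p2⟩ := mem_perp2.1 (πW x)
  rcases z2_cases (B a x) with e | e
  · simp only [f, e, zero_add, zero_mul, add_zero]
    by_cases h0 : π x = 0
    · have : x = B c x • a := by
        conv_lhs => rw [dec x]
        simp [e, h0]
      rw [h0, g0, add_zero]
      rcases z2_cases (B c x) with e1 | e1 <;> rw [e1] at this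
      · simp [this, h.zero]
      · simp only [one_smul] at this; simp [this, ha, hca]
    · have e' : x = π x + B c x • a := by
        conv_lhs => rw [dec x]
        simp [e, add_comm]
      constructor
      · intro hx
        rw [gval _ (πW x) h0 (B c x) (by rwa [← e'])]
        generalize B c x = s; revert s; decide
      · intro hf
        have := lift _ (πW x) h0
        rwa [show 1 + g (π x) = B c x by
          revert hf; generalize B c x = s; generalize g (π x) = t; revert s t; decide, ← e'] at this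
  · simp only [f, e, one_mul]
    rw [show (1 : ZMod 2) + B c x + B c x + g (π x) = 1 + g (π x) by
      generalize B c x = s; generalize g (π x) = t; revert s t; decide]
    have e' : x = c + B c x • a + π x := by
      conv_lhs => rw [dec x]
      simp [e]
    constructor
    · intro hx
      obtain ⟨hu, -⟩ := h.coset_of ha hac hx e
      rw [show x + c + B c x • a = π x by simp [πdef, e]] at hu
      simp [g, hu]
    · intro hf
      have hu : π x ∈ h.coset a c := by_contra fun e1 => by simp [g, e1] at hf
      rw [e']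
      exact (h.coset_lift ha hac hu _).1

omit h in
/-- The three kinds. -/
theorem trichotomy [Finite V] (h : CT B S) (hne : S.Nonempty) :
    S = {x | x ≠ 0} ∨
    (∃ Q : QuadraticForm (ZMod 2) V, (∀ x y, QuadraticMap.polar Q x y = B x y) ∧ S = {x | Q x = 1} ∧
      ∃ w : Fin 3 → V, LinearIndependent (ZMod 2) w ∧ ∀ i j, B (w i) (w j) = 0) ∨
    ∃ (ι : Type) (_ : Fintype ι) (p : ι → V), Pairs B S p := by
  obtain ⟨a, ha⟩ := hne
  by_cases hst : ∃ b ∈ nb B S a, b + a ∈ S
  · obtain ⟨b, hb, hba⟩ := hst
    exact Or.inl (h.all_of_pair ha hb hba)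
  obtain ⟨c, hc, hac⟩ := h.exists_opp ha
  right
  by_cases hcl : ∀ u ∈ h.coset a c, ∀ v ∈ h.coset a c, u ≠ 0 → v ≠ 0 → u ≠ v → B u v = 1
  · right
    obtain ⟨p, hp⟩ := h.pairs_of_clique ha hc hac hcl
    classical
    have : Fintype (Bool ⊕ ↥(h.coset a c)) := Fintype.ofFinite _
    let e := (Fintype.equivFin (Bool ⊕ ↥(h.coset a c)))
    refine ⟨Fin (Fintype.card (Bool ⊕ ↥(h.coset a c))), inferInstance, p ∘ e.symm, ?_, ?_, ?_⟩
    · refine hp.eq.trans ?_; ext x
      constructor
      · rintro ⟨i, j, hij, rfl⟩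
        exact ⟨e i, e j, e.injective.ne hij, by simp⟩
      · rintro ⟨i, j, hij, rfl⟩
        exact ⟨e.symm i, e.symm j, e.symm.injective.ne hij, rfl⟩
    · intro i j k h1 h2 h3
      exact hp.share _ _ _ (e.symm.injective.ne h1) (e.symm.injective.ne h2) (e.symm.injective.ne h3)
    · intro i j k l h1 h2 h3 h4 h5 h6
      exact hp.apart _ _ _ _ (e.symm.injective.ne h1) (e.symm.injective.ne h2) (e.symm.injective.ne h3)
        (e.symm.injective.ne h4) (e.symm.injective.ne h5) (e.symm.injective.ne h6)
  · left
    push Not at hcl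
    obtain ⟨p, hp, q, hq, hp0, hq0, hpq, hB⟩ := hcl
    obtain ⟨Q, hQ1, hQ2⟩ :=
      h.form_of_pair ha hc hac (fun b hb hba => hst ⟨b, hb, hba⟩) hp hq hp0 hq0 hpq (z2_eq_zero hB)
    refine ⟨Q, hQ1, hQ2, ![a, p, q], ?_, ?_⟩
    · rw [Fintype.linearIndependent_iff]
      intro k hk
      simp only [Fin.sum_univ_three, Matrix.cons_val_zero, Matrix.cons_val_one, Matrix.cons_val_two,
        Matrix.tail_cons, Matrix.head_cons] at hk
      have hca : B c a = 1 := by rw [h.symm]; exact hac
      have k0 : k 0 = 0 := by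
        have := congrArg (B c) hk
        simpa [hca, hp.2.1, hq.2.1] using this
      rw [k0, zero_smul, zero_add] at hk
      intro i
      rcases z2_cases (k 1) with e1 | e1 <;> rcases z2_cases (k 2) with e2 | e2 <;>
        rw [e1, e2] at hk <;> simp at hk
      · fin_cases i
        exacts [k0, e1, e2]
      · exact absurd hk hq0
      · exact absurd hk hp0
      · exact absurd (eq_of_vadd hk) hpq
    · have hB' := z2_eq_zero hB
      intro i j
      fin_cases i <;> fin_cases j <;>
        simp [h.alt, hp.1, hq.1, h.symm p a, h.symm q a, h.symm q p, hB']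

end CT

end Cfsg.Agent.FischerMain
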