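/-
Interfaces for the central-core half of Fischer's theorem.

Main definitions:
* `Central D` : a class with trivial radical, connected commuting graph and central local cores;
* `nonc D x` : the members not commuting with `x`;
* `Chart3 D X Q c ψ` : `X` is the set of points of norm `c` of an orthogonal space over three elements;
* `ChartU D X pt` : `X` is the set of isotropic points of a unitary space over four elements;
* `O3Kind`, `UKind`, `PlaneKind` : the conclusions.
-/
import Cfsg.Agent.Lib.FischerMain.Model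
import Cfsg.Agent.Lib.ThreeTrans.Local
import Cfsg.Agent.Lib.ThreeTransSU.Transv
import Cfsg.Agent.Lib.Orth.Basic

set_option autoImplicit false

namespace Cfsg.Agent.FischerMain

open Cfsg Cfsg.Agent.ThreeTransRank Cfsg.Agent.ThreeTrans Cfsg.Agent.ThreeTransSU Cfsg.Agent.U62Cover
  Cfsg.Agent.Unitary
open QuadraticMap (polar)

variable {G : Type*} [Group G]

/-- A class with trivial radical, connected commuting graph and central local cores. -/
structure Central (D : Set G) : Prop extends Base D where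
  conn : ConnectedComm D
  ne : ∀ x ∈ D, (adj D x).Nonempty
  loc : ∀ x ∈ D, CentralCores ↥(Loc D x)

/-- The members not commuting with `x`. -/
def nonc (D : Set G) (x : G) : Set G := {y | y ∈ D ∧ ¬ Commute x y}

/-- The local group modulo its centre. -/
abbrev LocQ (D : Set G) (x : G) : Type _ := ↥(Loc D x) ⧸ Subgroup.center ↥(Loc D x)

/-- The distinguished set of the local group modulo its centre. -/
abbrev locQSet (D : Set G) (x : G) : Set (LocQ D x) := toQ ↥(Loc D x) '' locSet D x

/-- The reflection of `v` in the vector `u` of norm `c`. -/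
def rv {n : ℕ} (Q : QuadraticForm (ZMod 3) (Fin n → ZMod 3)) (c : ZMod 3) (u v : Fin n → ZMod 3) :
    Fin n → ZMod 3 :=
  v - (c⁻¹ * polar ⇑Q u v) • u

/-- A set of members as the points of norm `c` of an orthogonal space over three elements. -/
structure Chart3 (X : Set G) {n : ℕ} (Q : QuadraticForm (ZMod 3) (Fin n → ZMod 3)) (c : ZMod 3)
    (ψ : (Fin n → ZMod 3) → G) : Prop where
  c_ne : c ≠ 0
  nd : Q.polarBilin.Nondegenerate
  mem : ∀ v, Q v = c → ψ v ∈ X
  surj : ∀ y ∈ X, ∃ v, Q v = c ∧ ψ v = y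
  eq_iff : ∀ u v, Q u = c → Q v = c → (ψ u = ψ v ↔ v = u ∨ v = -u)
  comm : ∀ u v, Q u = c → Q v = c → (Commute (ψ u) (ψ v) ↔ polar ⇑Q u v = 0 ∨ v = u ∨ v = -u)
  conj : ∀ u v, Q u = c → Q v = c → ψ u * ψ v * ψ u = ψ (rv Q c u v)

/-- A set of members as the isotropic points of a unitary space over four elements. -/
structure ChartU {F : Type} [Field F] [Fintype F] (X : Set G) {n : ℕ} (pt : (Fin n → F) → G) : Prop where
  card : Fintype.card F = 4
  mem : ∀ v, Iso v → pt v ∈ X
  surj : ∀ y ∈ X, ∃ v, Iso v ∧ pt v = y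
  eq_iff : ∀ u v, Iso u → Iso v → (pt u = pt v ↔ ∃ a : F, a ≠ 0 ∧ v = a • u)
  comm : ∀ u v, Iso u → Iso v → (Commute (pt u) (pt v) ↔ hf u v = 0)
  conj : ∀ u v, Iso u → Iso v → pt u * pt v * pt u = pt (act (tv card u) v)
  realise : ∀ g : Cfsg.SU n F 2, ∃ h ∈ Subgroup.closure X, ∀ v, Iso v → h * pt v * h⁻¹ = pt (act g v)

/-- The reflection group of an orthogonal space over three elements, modulo its centre. -/
def O3Kind (G : Type*) [Group G] (D : Set G) : Prop :=
  ∃ n : ℕ, 5 ≤ n ∧ ∃ Q : QuadraticForm (ZMod 3) (Fin n → ZMod 3), (QuadraticMap.polarBilin Q).Nondegenerate ∧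
    ∃ c : ZMod 3, c ≠ 0 ∧
      ∃ e : G ≃* ↥(Cfsg.reflectionSubgroup (⇑Q) c) ⧸ Subgroup.center ↥(Cfsg.reflectionSubgroup (⇑Q) c),
        e '' D = (QuotientGroup.mk : ↥(Cfsg.reflectionSubgroup (⇑Q) c) → _) ''
          {g : ↥(Cfsg.reflectionSubgroup (⇑Q) c) |
            (g : ↥(Cfsg.isometryGroup (ZMod 3) (⇑Q))) ∈ Cfsg.reflectionsOfNorm (⇑Q) c}

/-- The unitary groups over four elements. -/
def UKind (G : Type*) [Group G] (D : Set G) : Prop :=
  ∃ (n : ℕ) (F : Type) (_ : Field F) (_ : Fintype F), Fintype.card F = 4 ∧ 4 ≤ n ∧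
    ∃ e : G ≃* Cfsg.PSU n F 2,
      e '' D = (QuotientGroup.mk : ↥(Cfsg.SU n F 2) → Cfsg.PSU n F 2) ''
        {g : ↥(Cfsg.SU n F 2) | (((g : Matrix.SpecialLinearGroup (Fin n) F) :
          Matrix (Fin n) (Fin n) F) - 1).rank = 1}

/-- The classes having a plane with central local cores. -/
def CentralKind (G : Type*) [Group G] (D : Set G) : Prop :=
  O3Kind G D ∨ IsOfTypeM22 G D ∨ IsOfTypeM23 G D ∨ IsOfTypeM24 G D

/-- The classes having a plane. -/
def PlaneKind (G : Type*) [Group G] (D : Set G) : Prop := UKind G D ∨ CentralKind G D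

end Cfsg.Agent.FischerMain
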