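/-
Basic facts on classes with trivial radical and connected commuting graph.

Main results:
* `centralCores_of_separated`, `Base.ne_of_conn`, `Base.trans_nonc`, `Base.common_ncard`, `Base.count`;
* `Central.base_local`, `Central.conn_local`, `Central.card_local` : the local group modulo its centre;
* `Chart3.lift`, `ChartU.lift` : charts of the local quotient give charts of `adj D x`.
-/
import Cfsg.Agent.Lib.FischerMain.Defs
import Cfsg.Agent.Lib.ThreeTrans.WidthOne
import Cfsg.Agent.Lib.ThreeTrans.Structure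

set_option autoImplicit false

namespace Cfsg.Agent.FischerMain

open Cfsg Cfsg.Agent.ThreeTransRank Cfsg.Agent.ThreeTrans Cfsg.Agent.ThreeTransSU Relation
open Cfsg.Agent.U62Cover Cfsg.Agent.Unitary

variable {G : Type*} [Group G] {D : Set G}

theorem mem_adj_symm {a b : G} (ha : a ∈ D) (h : b ∈ adj D a) : a ∈ adj D b :=
  ⟨ha, h.2.1.symm, h.2.2.symm⟩

theorem mem_common_iff {a b y : G} (hab : ¬ Commute a b) :
    y ∈ common D a b ↔ y ∈ D ∧ Commute a y ∧ Commute b y :=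
  ⟨fun h => ⟨h.1.1, h.1.2.2, h.2.2.2⟩, fun ⟨hy, h1, h2⟩ =>
    ⟨⟨hy, fun e => hab (e ▸ h2).symm, h1⟩, hy, fun e => hab (e ▸ h1), h2⟩⟩

theorem common_symm (a b : G) : common D a b = common D b a := Set.inter_comm _ _

theorem commute_conj_iff (g : G) {a b : G} :
    Commute (g * a * g⁻¹) (g * b * g⁻¹) ↔ Commute a b := by
  constructor
  · intro h
    simpa [mul_assoc] using h.map (MulAut.conj g⁻¹).toMonoidHom
  · intro h
    simpa [mul_assoc] using h.map (MulAut.conj g).toMonoidHom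

theorem conj_adj_iff (hconj : ∀ g : G, ∀ d ∈ D, g * d * g⁻¹ ∈ D) (g : G) {a y : G} :
    g * y * g⁻¹ ∈ adj D (g * a * g⁻¹) ↔ y ∈ adj D a := by
  rw [conj_adj hconj, show g⁻¹ * (g * y * g⁻¹) * g = y by group]

theorem conj_mem_common_iff (hconj : ∀ g : G, ∀ d ∈ D, g * d * g⁻¹ ∈ D) (g : G) {a b y : G} :
    g * y * g⁻¹ ∈ common D (g * a * g⁻¹) (g * b * g⁻¹) ↔ y ∈ common D a b :=
  and_congr (conj_adj_iff hconj g) (conj_adj_iff hconj g)

theorem common_map (hconj : ∀ g : G, ∀ d ∈ D, g * d * g⁻¹ ∈ D) (g a b : G) :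
    common D (g * a * g⁻¹) (g * b * g⁻¹) = (fun y => g * y * g⁻¹) '' common D a b := by
  ext y
  constructor
  · intro hy
    exact ⟨g⁻¹ * y * g, (conj_mem_common_iff hconj g).1
      (by rwa [show g * (g⁻¹ * y * g) * g⁻¹ = y by group]), by group⟩
  · rintro ⟨z, hz, rfl⟩; exact (conj_mem_common_iff hconj g).2 hz

/-- Separation by commuting sets makes the cores central. -/
theorem centralCores_of_separated [Finite G] (hD : IsThreeTranspositionGroup D)
    (h2 : ∀ a ∈ D, ∀ b ∈ D, VRel D a b → a = b) (h3 : ∀ a ∈ D, ∀ b ∈ D, adj D a = adj D b → a = b) :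
    CentralCores G := by
  constructor
  all_goals
    intro n hn
    refine commute_all_of_gen hD.2.2 fun d hd => ?_
    have hd' := hD.2.1 n d hd
    have e : n * d * n⁻¹ = d := by
      first
        | exact (h2 d hd _ hd' (vRel_of_mem_pCore_two hD.1 hd hd' (inv_mul_conj_mem hn))).symm
        | exact (h3 d hd _ hd' (adj_eq_of_mem_pCore_three hD.1 hd hd' (inv_mul_conj_mem hn))).symm
    show d * n = n * d
    calc d * n = n * d * n⁻¹ * n := by rw [e]
      _ = n * d := by group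

/-- A set of members in which distinct members commuting with a third commute with each other. -/
theorem exists_path [Finite G] (hD : IsThreeTranspositionClass D)
    (h2 : ∃ a ∈ D, ∃ b ∈ D, a ≠ b) (hc : CentralCores G) :
    ∃ p ∈ D, ∃ q ∈ adj D p, ∃ r ∈ adj D q, ¬ Commute p r := by
  by_contra hcon
  have htr : ∀ p ∈ D, ∀ q ∈ adj D p, ∀ r ∈ adj D q, Commute p r :=
    fun p hp q hq r hr => by_contra fun h => hcon ⟨p, hp, q, hq, r, hr, h⟩
  have hnone : ∀ p ∈ D, ∀ q ∈ D, Commute p q → q = p := by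
    intro p hp q hq hpq
    refine (vRel_eq hD h2 hc.1 hp hq fun e he => ⟨fun h1 => ?_, fun h1 => ?_⟩).symm
    · by_cases e1 : e = q
      · exact e1 ▸ hpq
      by_cases e2 : q = p
      · exact e2 ▸ h1
      exact htr p hp q ⟨hq, e2, hpq⟩ e ⟨he, e1, h1⟩
    · by_cases e1 : e = p
      · exact e1 ▸ hpq.symm
      by_cases e2 : p = q
      · exact e2 ▸ h1
      exact htr q hq p ⟨hp, e2, hpq.symm⟩ e ⟨he, e1, h1⟩
  obtain ⟨a, ha, b, hb, hab⟩ := id h2
  refine hab (adj_inj hD h2 hc.2 ha hb ?_)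
  have hempty : ∀ p ∈ D, adj D p = ∅ := fun p hp =>
    Set.eq_empty_iff_forall_notMem.2 fun y hy => hy.2.1 (hnone p hp y hy.1 hy.2.2)
  rw [hempty a ha, hempty b hb]

namespace Base

variable [Finite G] (h : Base D)
include h

theorem cores : CentralCores G := centralCores_of_trivialRadical h.rad

theorem two_of_adj {a : G} (ha : a ∈ D) : ∃ b ∈ D, ¬ Commute a b := exists_not_commute h.cls h.two ha

theorem ne_of_conn (hconn : ConnectedComm D) {x : G} (hx : x ∈ D) : (adj D x).Nonempty := by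
  obtain ⟨b, hb, hne⟩ := h.two_of_adj hx
  by_contra hemp
  have key : ∀ y, ReflTransGen (fun u v => u ∈ D ∧ v ∈ D ∧ Commute u v) x y → y = x := by
    intro y hy
    induction hy with
    | refl => rfl
    | @tail u v _ huv ih =>
      by_contra hvx
      exact hemp ⟨v, huv.2.1, hvx, ih ▸ huv.2.2⟩
  exact hne (key b (hconn x hx b hb) ▸ Commute.refl x)

theorem trans_nonc (hconn : ConnectedComm D) {a b a' b' : G} (ha : a ∈ D) (hb : b ∈ D) (ha' : a' ∈ D)
    (hb' : b' ∈ D) (hab : ¬ Commute a b) (hab' : ¬ Commute a' b') :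
    ∃ g : G, g * a * g⁻¹ = a' ∧ g * b * g⁻¹ = b' := by
  obtain ⟨g, rfl⟩ := class_conj h.cls ha ha'
  obtain ⟨k, hk, hkb⟩ := noncommuting_transitive h.rad h.cls hconn (h.conj g a ha) (h.conj g b hb) hb'
    (fun e => hab ((commute_conj_iff g).1 e)) hab'
  refine ⟨k * g, ?_, by rw [← hkb]; group⟩
  calc k * g * a * (k * g)⁻¹ = k * (g * a * g⁻¹) * k⁻¹ := by group
    _ = g * a * g⁻¹ := by rw [hk.eq, mul_inv_cancel_right]

theorem common_ncard (hconn : ConnectedComm D) {a b a' b' : G} (ha : a ∈ D) (hb : b ∈ D) (ha' : a' ∈ D)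
    (hb' : b' ∈ D) (hab : ¬ Commute a b) (hab' : ¬ Commute a' b') :
    (common D a b).ncard = (common D a' b').ncard := by
  obtain ⟨g, rfl, rfl⟩ := h.trans_nonc hconn ha hb ha' hb' hab hab'
  rw [common_map h.conj,
    Set.ncard_image_of_injective _ fun u v e => mul_left_cancel (mul_right_cancel e)]

theorem trans_comm {a b a' b' : G} (ha : a ∈ D) (hb : b ∈ adj D a) (ha' : a' ∈ D) (hb' : b' ∈ adj D a') :
    ∃ g : G, g * a * g⁻¹ = a' ∧ g * b * g⁻¹ = b' :=
  pair_transitive h.rad h.cls ha hb.1 ha' hb'.1 hb.2.2 hb'.2.2 hb.2.1.symm hb'.2.1.symm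

theorem common_nonempty (hconn : ConnectedComm D) {a b : G} (ha : a ∈ D) (hb : b ∈ D)
    (hab : ¬ Commute a b) : (common D a b).Nonempty := by
  obtain ⟨p, hp, q, hq, r, hr, hpr⟩ := exists_path h.cls h.two h.cores
  obtain ⟨g, rfl, rfl⟩ := h.trans_nonc hconn hp hr.1 ha hb hpr hab
  rw [common_map h.conj]
  exact ⟨_, q, ⟨hq, mem_adj_symm hq.1 hr⟩, rfl⟩

/-- Double counting of paths of length two from `x`. -/
theorem count (hconn : ConnectedComm D) {x z : G} (hx : x ∈ D) (hz : z ∈ nonc D x) {k lam : ℕ}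
    (hk : (adj D x).ncard = k) (hlam : ∀ v ∈ adj D x, (common D x v).ncard = lam) :
    k * (k - lam - 1) = (nonc D x).ncard * (common D x z).ncard := by
  classical
  have := Fintype.ofFinite G
  set A : Finset G := (adj D x).toFinset
  set N : Finset G := (nonc D x).toFinset
  have h1 : ∀ v ∈ A, (N.filter fun w => Commute v w).card = k - lam - 1 := by
    intro v hv
    rw [Set.mem_toFinset] at hv
    have hxv : x ∈ adj D v := mem_adj_symm hx hv
    have hset : ((N.filter fun w => Commute v w : Finset G) : Set G) = adj D v \ insert x (common D x v) := by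
      ext w
      simp only [N, Finset.coe_filter, Set.mem_toFinset, Set.mem_ofPred_eq, Set.mem_sdiff,
        Set.mem_insert_iff, not_or]
      constructor
      · rintro ⟨⟨hw, hxw⟩, hvw⟩
        exact ⟨⟨hw, fun e => hxw (e ▸ hv.2.2), hvw⟩, fun e => hxw (e ▸ Commute.refl x),
          fun e => hxw e.1.2.2⟩
      · rintro ⟨hw, hwx, hc⟩
        exact ⟨⟨hw.1, fun e => hc ⟨⟨hw.1, hwx, e⟩, hw⟩⟩, hw.2.2⟩
    have hsub : insert x (common D x v) ⊆ adj D v := Set.insert_subset hxv Set.inter_subset_right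
    rw [← Set.ncard_coe_finset, hset, Set.ncard_sdiff hsub,
      Set.ncard_insert_of_notMem (fun e => e.1.2.1 rfl), hlam v hv, ncard_adj_eq h.cls hv.1 hx, hk]
    omega
  have h2 : ∀ w ∈ N, (A.filter fun v => Commute v w).card = (common D x z).ncard := by
    intro w hw
    rw [Set.mem_toFinset] at hw
    rw [h.common_ncard hconn hx hz.1 hx hw.1 hz.2 hw.2, ← Set.ncard_coe_finset]
    congr 1
    ext v
    simp only [A, Finset.coe_filter, Set.mem_toFinset, Set.mem_ofPred_eq]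
    rw [mem_common_iff hw.2]
    exact ⟨fun ⟨hv, hvw⟩ => ⟨hv.1, hv.2.2, hvw.symm⟩,
      fun ⟨hv, c1, c2⟩ => ⟨⟨hv, fun e => hw.2 (e ▸ c2).symm, c1⟩, c2.symm⟩⟩
  have e := Finset.sum_card_bipartiteAbove_eq_sum_card_bipartiteBelow
    (s := A) (t := N) (r := fun v w => Commute v w)
  simp only [Finset.bipartiteAbove, Finset.bipartiteBelow] at e
  rw [Finset.sum_congr rfl h1, Finset.sum_congr rfl h2, Finset.sum_const, Finset.sum_const,
    smul_eq_mul, smul_eq_mul] at e
  rw [show A.card = k from (Set.ncard_eq_toFinset_card' _).symm.trans hk,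
    show N.card = (nonc D x).ncard from (Set.ncard_eq_toFinset_card' _).symm] at e
  exact e

end Base

/-! ### the local group modulo its centre -/

namespace Central

variable [Finite G] (h : Central D)
include h

theorem cls_loc {x : G} (hx : x ∈ D) : IsThreeTranspositionClass (locSet D x) :=
  loc_class h.cls h.cores hx (h.ne x hx)

theorem two_loc {x : G} (hx : x ∈ D) : ∃ a ∈ locSet D x, ∃ b ∈ locSet D x, a ≠ b :=
  ThreeTrans.loc_two h.cls h.cores hx (h.ne x hx)

theorem base_local {x : G} (hx : x ∈ D) : Base (locQSet D x) where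
  cls := class_quotient (h.cls_loc hx) (h.two_loc hx)
  rad := trivialRadical_quotient (group_of_class (h.cls_loc hx)) (h.loc x hx)
  two := two_le_quotient (h.cls_loc hx) (h.two_loc hx)

theorem exists_path_adj {x : G} (hx : x ∈ D) :
    ∃ p ∈ adj D x, ∃ q ∈ adj D x, ∃ r ∈ adj D x, Commute p q ∧ Commute q r ∧ p ≠ q ∧ q ≠ r ∧ ¬ Commute p r := by
  obtain ⟨p, hp, q, hq, r, hr, hpr⟩ := exists_path (h.cls_loc hx) (h.two_loc hx) (h.loc x hx)
  exact ⟨p, hp, q, hq.1, r, hr.1, commute_coe_iff.1 hq.2.2, commute_coe_iff.1 hr.2.2,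
    fun e => hq.2.1 (Subtype.ext e.symm), fun e => hr.2.1 (Subtype.ext e.symm),
    fun e => hpr (commute_coe_iff.2 e)⟩

/-- The commuting graph on the members commuting with `y` is connected. -/
theorem conn_adj {y a b : G} (hy : y ∈ D) (ha : a ∈ adj D y) (hb : b ∈ adj D y) :
    ReflTransGen (fun u v => u ∈ adj D y ∧ v ∈ adj D y ∧ Commute u v) a b := by
  by_contra hnot
  have hab : ¬ Commute a b := fun e => hnot (.single ⟨ha, hb, e⟩)
  have hiso : ∀ t ∈ common D a b, Commute t y → t = y := by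
    intro t ht hty
    by_contra hne
    have hta : t ∈ adj D y := ⟨ht.1.1, hne, hty.symm⟩
    exact hnot ((ReflTransGen.single ⟨ha, hta, ht.1.2.2⟩).tail ⟨hta, hb, ht.2.2.2.symm⟩)
  have hyc : y ∈ common D a b := ⟨mem_adj_symm hy ha, mem_adj_symm hy hb⟩
  obtain ⟨p, hp, q, hq, r, hr, hpq, hqr, hpq', hqr', hpr⟩ := h.exists_path_adj hy
  obtain ⟨g, hga, hgb⟩ := h.toBase.trans_nonc h.conn hp.1 hr.1 ha.1 hb.1 hpr hab
  set y' := g * y * g⁻¹
  set w := g * q * g⁻¹
  have hy' : y' ∈ common D a b := by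
    rw [← hga, ← hgb]; exact (conj_mem_common_iff h.conj g).2 ⟨mem_adj_symm hy hp, mem_adj_symm hy hr⟩
  have hw : w ∈ common D a b := by
    rw [← hga, ← hgb]
    exact (conj_mem_common_iff h.conj g).2 ⟨⟨hq.1, hpq'.symm, hpq⟩, hq.1, hqr', hqr.symm⟩
  have hyw : Commute y' w := (commute_conj_iff g).2 hq.2.2
  have hne' : w ≠ y' := fun e => hq.2.1 (mul_left_cancel (mul_right_cancel e))
  by_cases hc : Commute y' y
  · have e := hiso y' hy' hc
    exact hne' ((hiso w hw (by rw [← e]; exact hyw.symm)).trans e.symm)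
  have cm : ∀ t ∈ common D a b, ∀ u ∈ common D a b, t * u * t⁻¹ ∈ common D a b := by
    intro t ht u hu
    have e1 : t * a * t⁻¹ = a := by rw [← ht.1.2.2.eq, mul_inv_cancel_right]
    have e2 : t * b * t⁻¹ = b := by rw [← ht.2.2.2.eq, mul_inv_cancel_right]
    have h1 := (conj_mem_common_iff h.conj t).2 hu
    rwa [e1, e2] at h1
  have hD := h.set
  have hs : y * y' * y⁻¹ = y' * y * y'⁻¹ := by
    rw [inv_eq hD hy, inv_eq hD hy'.1.1]
    exact braid hD hy hy'.1.1 fun e => hc e.symm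
  have hn : y * w * y⁻¹ ≠ y * y' * y⁻¹ := fun e => hne' (mul_left_cancel (mul_right_cancel e))
  have hyw' : Commute (y * w * y⁻¹) (y * y' * y⁻¹) := (commute_conj_iff y).2 hyw.symm
  -- pull back by y'
  set t := y'⁻¹ * (y * w * y⁻¹) * y'
  have ht : t ∈ common D a b := by
    have := cm y' hy' _ (cm y hyc w hw)
    show y'⁻¹ * (y * w * y⁻¹) * y' ∈ _
    rwa [inv_eq hD hy'.1.1] at this ⊢
  have htc : Commute t y := by
    have e : y' * t * y'⁻¹ = y * w * y⁻¹ := by simp only [t]; group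
    rw [← commute_conj_iff y', e, ← hs]
    exact hyw'
  apply hn
  calc y * w * y⁻¹ = y' * t * y'⁻¹ := by simp only [t]; group
    _ = y' * y * y'⁻¹ := by rw [hiso t ht htc]
    _ = y * y' * y⁻¹ := hs.symm

theorem conn_local {x : G} (hx : x ∈ D) : ConnectedComm (locQSet D x) := by
  rintro _ ⟨a, ha, rfl⟩ _ ⟨b, hb, rfl⟩
  have key : ∀ c, ReflTransGen (fun u v => u ∈ adj D x ∧ v ∈ adj D x ∧ Commute u v) (a : G) c →
      ∀ (hc : c ∈ Loc D x), ReflTransGen (fun u v => u ∈ locQSet D x ∧ v ∈ locQSet D x ∧ Commute u v)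
        (toQ ↥(Loc D x) a) (toQ ↥(Loc D x) ⟨c, hc⟩) := by
    intro c hac
    induction hac with
    | refl => intro hc; exact .refl
    | @tail u v _ huv ih =>
      intro hv
      have hu : u ∈ Loc D x := Subgroup.subset_closure huv.1
      exact (ih hu).tail ⟨⟨⟨u, hu⟩, huv.1, rfl⟩, ⟨⟨v, hv⟩, huv.2.1, rfl⟩,
        (commute_coe_iff.2 huv.2.2 : Commute (⟨u, hu⟩ : ↥(Loc D x)) ⟨v, hv⟩).map _⟩
  exact key b (h.conn_adj hx ha hb) b.2

theorem card_local {x : G} (hx : x ∈ D) : Nat.card (LocQ D x) < Nat.card G := by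
  have hlt : Loc D x ≠ ⊤ := by
    intro e
    have hcen : x ∈ Subgroup.center G := Subgroup.mem_center_iff.2 fun g =>
      (commute_of_mem_Loc (e ▸ Subgroup.mem_top g : g ∈ Loc D x)).eq
    obtain ⟨b, -, hb⟩ := h.toBase.two_of_adj hx
    exact hb (Subgroup.mem_center_iff.1 hcen b).symm
  refine lt_of_le_of_lt (Nat.card_le_card_of_surjective _ (QuotientGroup.mk'_surjective _)) ?_
  exact lt_of_le_of_ne (Subgroup.card_le_card_group _) fun e => hlt (Subgroup.eq_top_of_card_eq _ e)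

end Central

/-! ### lifting charts -/

theorem rv_norm {n : ℕ} {Q : QuadraticForm (ZMod 3) (Fin n → ZMod 3)} {c : ZMod 3} (hc : c ≠ 0)
    {u v : Fin n → ZMod 3} (hu : Q u = c) (hv : Q v = c) : Q (rv Q c u v) = c := by
  rw [rv, Orth.Q_sub, Orth.Q_smul, Orth.pl_smul_right, hu, hv, Orth.pl_comm Q v u]
  field_simp
  ring

section lift

variable [Finite G] {x : G}

theorem exists_lift {ι : Type*} (P : ι → Prop) (f : ι → LocQ D x) (hf : ∀ v, P v → f v ∈ locQSet D x) :
    ∃ φ : ι → G, ∀ v, P v → φ v ∈ adj D x ∧ ∀ hm : φ v ∈ Loc D x, toQ ↥(Loc D x) ⟨φ v, hm⟩ = f v := by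
  classical
  refine ⟨fun v => if hv : P v then ((hf v hv).choose : G) else 1, fun v hv => ?_⟩
  simp only [dif_pos hv]
  exact ⟨(hf v hv).choose_spec.1, fun _ => (hf v hv).choose_spec.2⟩

theorem Central.lift_eq (h : Central D) (hx : x ∈ D) {a b : G} (ha : a ∈ adj D x) (hb : b ∈ adj D x)
    (e : toQ ↥(Loc D x) ⟨a, Subgroup.subset_closure ha⟩ = toQ ↥(Loc D x) ⟨b, Subgroup.subset_closure hb⟩) :
    a = b :=
  congrArg Subtype.val (mk_inj (h.cls_loc hx) (h.two_loc hx) (x := ⟨a, _⟩) (y := ⟨b, _⟩) ha hb e)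

theorem Central.lift_comm (h : Central D) (hx : x ∈ D) {a b : G} (ha : a ∈ adj D x) (hb : b ∈ adj D x) :
    Commute (toQ ↥(Loc D x) ⟨a, Subgroup.subset_closure ha⟩)
      (toQ ↥(Loc D x) ⟨b, Subgroup.subset_closure hb⟩) ↔ Commute a b :=
  ⟨fun e => commute_coe_iff.1 (commute_of_commute_mk (h.cls_loc hx) (h.two_loc hx) (x := ⟨a, _⟩)
    (y := ⟨b, _⟩) ha hb e),
    fun e => (commute_coe_iff.2 e : Commute (⟨a, Subgroup.subset_closure ha⟩ : ↥(Loc D x)) ⟨b, _⟩).map _⟩

theorem adj_conj_mem (h : Base D) {a b : G} (ha : a ∈ adj D x) (hb : b ∈ adj D x) : a * b * a ∈ adj D x := by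
  have e : a * x * a⁻¹ = x := by rw [← ha.2.2.eq, mul_inv_cancel_right]
  have := (conj_adj_iff h.conj a).2 hb
  rwa [e, inv_eq h.set ha.1] at this

theorem Chart3.lift (h : Central D) (hx : x ∈ D) {n : ℕ} {Q : QuadraticForm (ZMod 3) (Fin n → ZMod 3)}
    {c : ZMod 3} {f : (Fin n → ZMod 3) → LocQ D x} (hf : Chart3 (locQSet D x) Q c f) :
    ∃ ψ, Chart3 (adj D x) Q c ψ := by
  obtain ⟨ψ, hψ⟩ := exists_lift (fun v => Q v = c) f hf.mem
  have hL : ∀ v (hv : Q v = c), toQ ↥(Loc D x) ⟨ψ v, Subgroup.subset_closure (hψ v hv).1⟩ = f v :=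
    fun v hv => (hψ v hv).2 _
  refine ⟨ψ, hf.c_ne, hf.nd, fun v hv => (hψ v hv).1, fun y hy => ?_, fun u v hu hv => ?_,
    fun u v hu hv => ?_, fun u v hu hv => ?_⟩
  · obtain ⟨v, hv, e⟩ := hf.surj _ ⟨⟨y, Subgroup.subset_closure hy⟩, hy, rfl⟩
    exact ⟨v, hv, h.lift_eq hx (hψ v hv).1 hy ((hL v hv).trans e)⟩
  · rw [← hf.eq_iff u v hu hv]
    refine ⟨fun e => ?_, fun e => h.lift_eq hx (hψ u hu).1 (hψ v hv).1 (by rw [hL u hu, hL v hv, e])⟩
    rw [← hL u hu, ← hL v hv]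
    congr 2
  · rw [← hf.comm u v hu hv, ← hL u hu, ← hL v hv]
    exact (h.lift_comm hx (hψ u hu).1 (hψ v hv).1).symm
  · have hr : Q (rv Q c u v) = c := rv_norm hf.c_ne hu hv
    refine h.lift_eq hx (adj_conj_mem h.toBase (hψ u hu).1 (hψ v hv).1) (hψ _ hr).1 ?_
    rw [hL _ hr, ← hf.conj u v hu hv]
    show toQ ↥(Loc D x) (⟨ψ u, Subgroup.subset_closure (hψ u hu).1⟩ *
      ⟨ψ v, Subgroup.subset_closure (hψ v hv).1⟩ * ⟨ψ u, Subgroup.subset_closure (hψ u hu).1⟩) = _
    rw [map_mul, map_mul, hL u hu, hL v hv]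

theorem ChartU.lift (h : Central D) (hx : x ∈ D) {F : Type} [Field F] [Fintype F] {n : ℕ}
    {f : (Fin n → F) → LocQ D x} (hf : ChartU (locQSet D x) f) : ∃ pt : (Fin n → F) → G, ChartU (adj D x) pt := by
  obtain ⟨pt, hpt⟩ := exists_lift (fun v : Fin n → F => Iso v) f hf.mem
  have hL : ∀ v (hv : Iso v), toQ ↥(Loc D x) ⟨pt v, Subgroup.subset_closure (hpt v hv).1⟩ = f v :=
    fun v hv => (hpt v hv).2 _
  refine ⟨pt, hf.card, fun v hv => (hpt v hv).1, fun y hy => ?_, fun u v hu hv => ?_, fun u v hu hv => ?_,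
    fun u v hu hv => ?_, fun g => ?_⟩
  · obtain ⟨v, hv, e⟩ := hf.surj _ ⟨⟨y, Subgroup.subset_closure hy⟩, hy, rfl⟩
    exact ⟨v, hv, h.lift_eq hx (hpt v hv).1 hy ((hL v hv).trans e)⟩
  · rw [← hf.eq_iff u v hu hv]
    refine ⟨fun e => ?_, fun e => h.lift_eq hx (hpt u hu).1 (hpt v hv).1 (by rw [hL u hu, hL v hv, e])⟩
    rw [← hL u hu, ← hL v hv]
    congr 2
  · rw [← hf.comm u v hu hv, ← hL u hu, ← hL v hv]
    exact (h.lift_comm hx (hpt u hu).1 (hpt v hv).1).symm
  · have hw : Iso (act (tv hf.card u) v) := hv.act _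
    refine h.lift_eq hx (adj_conj_mem h.toBase (hpt u hu).1 (hpt v hv).1) (hpt _ hw).1 ?_
    rw [hL _ hw, ← hf.conj u v hu hv]
    show toQ ↥(Loc D x) (⟨pt u, Subgroup.subset_closure (hpt u hu).1⟩ *
      ⟨pt v, Subgroup.subset_closure (hpt v hv).1⟩ * ⟨pt u, Subgroup.subset_closure (hpt u hu).1⟩) = _
    rw [map_mul, map_mul, hL u hu, hL v hv]
  · obtain ⟨q, -, hq⟩ := hf.realise g
    obtain ⟨k, rfl⟩ := QuotientGroup.mk'_surjective (Subgroup.center ↥(Loc D x)) q
    refine ⟨k, k.2, fun v hv => ?_⟩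
    have hk : (k : G) * pt v * (k : G)⁻¹ ∈ adj D x := by
      have e : (k : G) * x * (k : G)⁻¹ = x := by rw [(commute_of_mem_Loc k.2).eq, mul_inv_cancel_right]
      have := (conj_adj_iff h.conj (k : G)).2 (hpt v hv).1
      rwa [e] at this
    have hw : Iso (act g v) := hv.act _
    refine h.lift_eq hx hk (hpt _ hw).1 ?_
    rw [hL _ hw, ← hq v hv]
    show toQ ↥(Loc D x) (k * ⟨pt v, Subgroup.subset_closure (hpt v hv).1⟩ * k⁻¹) = _
    rw [map_mul, map_mul, map_inv, hL v hv]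

end lift

end Cfsg.Agent.FischerMain
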