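/-
The integrality condition on strongly regular graphs, and its form for classes of 3-transpositions.

Main results (namespace `Cfsg.Agent.FischerMain`):
* `srgDisc`, `srgTr` : Δ and τ of the parameters;
* `srg_param` : τ = 0 or Δ is the square of a divisor of τ;
* `Base.srg` : the same for the commuting graph of a class, the valency of the complement being `l`.
-/
import Cfsg.Agent.Lib.FischerMain.Setting
import Cfsg.Agent.Lib.Order10200960.SrgTrace

set_option autoImplicit false

namespace Cfsg.Agent.FischerMain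

open Cfsg Cfsg.Agent.ThreeTrans Matrix
open Cfsg.Agent.Order10200960 (trace_idempotent allOne)

/-- The discriminant of the eigenvalue equation. -/
def srgDisc (k lam mu : ℕ) : ℤ := ((lam : ℤ) - mu) ^ 2 + 4 * ((k : ℤ) - mu)

/-- The trace condition. -/
def srgTr (v k lam mu : ℕ) : ℤ := 2 * (k : ℤ) + ((v : ℤ) - 1) * ((lam : ℤ) - mu)

/-- The multiplicities of the eigenvalues are integers. -/
theorem srg_param {α : Type*} [Finite α] [Nonempty α] (R : α → α → Prop) (hsymm : ∀ a b, R a b → R b a)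
    (hirr : ∀ a, ¬ R a a) {v k lam mu : ℕ} (hv : Nat.card α = v) (hk : ∀ a, {b | R a b}.ncard = k)
    (hlam : ∀ a b, R a b → {c | R a c ∧ R b c}.ncard = lam)
    (hmu : ∀ a b, a ≠ b → ¬ R a b → {c | R a c ∧ R b c}.ncard = mu) (hpos : 0 < srgDisc k lam mu) :
    srgTr v k lam mu = 0 ∨ ∃ s : ℕ, (s : ℤ) ^ 2 = srgDisc k lam mu ∧ (s : ℤ) ∣ srgTr v k lam mu := by
  classical
  have := Fintype.ofFinite α
  obtain ⟨a₀⟩ := (inferInstance : Nonempty α)
  let A : Matrix α α ℝ := Matrix.of fun i j => if R i j then 1 else 0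
  have hA : ∀ i j, A i j = if R i j then 1 else 0 := fun i j => rfl
  have hcount : ∀ P : α → Prop, (∑ c : α, (if P c then (1 : ℝ) else 0)) = ({c | P c}.ncard : ℝ) := fun P => by
    rw [Finset.sum_boole, ← Set.ncard_coe_finset, Finset.coe_filter]
    simp
  have hrow : ∀ i, ∑ j, A i j = (k : ℝ) := fun i => by
    simp only [hA]; rw [hcount, hk]
  have hcol : ∀ j, ∑ i, A i j = (k : ℝ) := fun j => by
    simp only [hA]
    rw [hcount, ← hk j]
    congr 2
    exact Set.ext fun i => ⟨fun h => hsymm _ _ h, fun h => hsymm _ _ h⟩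
  set J := allOne α with hJ
  have hVv : Fintype.card α = v := by rw [← Nat.card_eq_fintype_card, hv]
  have hJJ : J * J = (v : ℝ) • J := by
    ext i j; simp [hJ, allOne, Matrix.mul_apply, hVv]
  have hAJ : A * J = (k : ℝ) • J := by
    ext i j; simp [hJ, allOne, Matrix.mul_apply, hrow]
  have hJA : J * A = (k : ℝ) • J := by
    ext i j; simp [hJ, allOne, Matrix.mul_apply, hcol]
  have hsq : A * A = (k : ℝ) • (1 : Matrix α α ℝ) + (lam : ℝ) • A + (mu : ℝ) • (J - 1 - A) := by
    ext i j
    have e : (A * A) i j = ({c | R i c ∧ R j c}.ncard : ℝ) := by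
      rw [Matrix.mul_apply, ← hcount]
      refine Finset.sum_congr rfl fun c _ => ?_
      rw [hA, hA]
      by_cases h1 : R i c <;> by_cases h2 : R j c <;> simp [h1, h2] <;>
        first | exact fun h => h2 (hsymm _ _ h) | exact hsymm _ _ h2
    rw [e]
    simp only [hJ, allOne, Matrix.add_apply, Matrix.smul_apply, Matrix.sub_apply, Matrix.of_apply,
      smul_eq_mul, hA]
    by_cases hij : i = j
    · subst hij
      rw [Matrix.one_apply_eq, if_neg (hirr i), show {c | R i c ∧ R i c} = {c | R i c} by simp, hk]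
      ring
    · rw [Matrix.one_apply_ne hij]
      by_cases h : R i j
      · rw [if_pos h, hlam i j h]; ring
      · rw [if_neg h, hmu i j hij h]; ring
  -- the relation between the parameters
  have hpar : (k : ℝ) * k = k + lam * k + mu * (v - 1 - k) := by
    have h1 : (A * A) * J = ((k : ℝ) * k) • J := by rw [mul_assoc, hAJ, mul_smul_comm, hAJ, smul_smul]
    rw [hsq, add_mul, add_mul, smul_mul_assoc, one_mul, smul_mul_assoc, hAJ, smul_mul_assoc, sub_mul,
      sub_mul, hJJ, one_mul, hAJ] at h1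
    have h2 := congrFun (congrFun h1 a₀) a₀
    simp [hJ, allOne] at h2
    linear_combination -h2
  set d : ℝ := (lam : ℝ) - mu with hd
  set E : ℝ := d ^ 2 + 4 * ((k : ℝ) - mu) with hE
  have hE0 : 0 < E := by
    have : ((0 : ℤ) : ℝ) < (srgDisc k lam mu : ℝ) := by exact_mod_cast hpos
    simpa [srgDisc, hE, hd] using this
  have hv0 : (v : ℝ) ≠ 0 := by
    rw [← hVv]; exact_mod_cast Fintype.card_ne_zero
  set c : ℝ := (2 * k - d) / v with hc
  set C : Matrix α α ℝ := (2 : ℝ) • A - d • (1 : Matrix α α ℝ) - c • J with hC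
  have hCJ : C * J = 0 := by
    rw [hC, sub_mul, sub_mul, smul_mul_assoc, smul_mul_assoc, smul_mul_assoc, hAJ, one_mul, hJJ, smul_smul,
      smul_smul, ← sub_smul, ← sub_smul]
    rw [show (2 : ℝ) * k - d - c * v = 0 by rw [hc]; field_simp; ring, zero_smul]
  have hJC : J * C = 0 := by
    rw [hC, mul_sub, mul_sub, mul_smul_comm, mul_smul_comm, mul_smul_comm, hJA, mul_one, hJJ, smul_smul,
      smul_smul, ← sub_smul, ← sub_smul,
      show (2 : ℝ) * k - d - c * v = 0 by rw [hc]; field_simp; ring, zero_smul]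
  have hCC : C * C = E • ((1 : Matrix α α ℝ) - (1 / (v : ℝ)) • J) := by
    have key : (4 : ℝ) * mu - (2 * k - d) * c = - E / v := by
      rw [hc, hE, hd]
      field_simp
      linear_combination -4 * hpar
    calc C * C = ((2 : ℝ) • A - d • (1 : Matrix α α ℝ)) * ((2 : ℝ) • A - d • (1 : Matrix α α ℝ))
          - (c * (2 * k - d)) • J := by
          have e : C * C = C * ((2 : ℝ) • A - d • (1 : Matrix α α ℝ)) - c • (C * J) := by
            conv_lhs => arg 2; rw [hC]
            rw [mul_sub, mul_smul_comm]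
          rw [e, hCJ, smul_zero, sub_zero]
          conv_lhs => rw [hC, sub_mul]
          congr 1
          rw [smul_mul_assoc, mul_sub, mul_smul_comm, mul_smul_comm, hJA, mul_one, smul_smul, ← sub_smul,
            smul_smul]
      _ = E • (1 : Matrix α α ℝ) + ((4 : ℝ) * mu - (2 * k - d) * c) • J := by
          rw [sub_mul, mul_sub, mul_sub, smul_mul_smul_comm, smul_mul_smul_comm, smul_mul_smul_comm,
            smul_mul_smul_comm, mul_one, one_mul, mul_one, hsq]
          simp only [hE, hd]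
          module
      _ = _ := by rw [key]; module
  have hC3 : C * C * C = E • C := by
    rw [hCC, smul_mul_assoc, sub_mul, one_mul, smul_mul_assoc, hJC, smul_zero, sub_zero]
  set s := Real.sqrt E with hs
  have hs2 : s * s = E := Real.mul_self_sqrt hE0.le
  have hs0 : s ≠ 0 := fun e => by rw [e, mul_zero] at hs2; linarith
  have hC4 : C * C * (C * C) = E • (C * C) := by rw [← mul_assoc, hC3, smul_mul_assoc]
  set P := (1 / (2 * E)) • (C * C) + (1 / (2 * s)) • C with hP
  have hgen : ∀ u w : ℝ, (u • (C * C) + w • C) * (u • (C * C) + w • C)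
      = (u * u * E + w * w) • (C * C) + (2 * u * w * E) • C := fun u w => by
    rw [add_mul, mul_add, mul_add, smul_mul_smul_comm, smul_mul_smul_comm, smul_mul_smul_comm,
      smul_mul_smul_comm, hC4, hC3, ← mul_assoc, hC3]
    module
  have hPP : P * P = P := by
    rw [hP, hgen]
    congr 2
    · rw [show (1 / (2 * s)) * (1 / (2 * s)) = 1 / (4 * (s * s)) by rw [div_mul_div_comm]; ring_nf, hs2]
      field_simp
      ring
    · field_simp
  obtain ⟨r, hr⟩ := trace_idempotent P hPP
  have htJ : J.trace = v := by simp [hJ, allOne, Matrix.trace, hVv]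
  have htA : A.trace = 0 := by simp [Matrix.trace, hA, hirr]
  have ht1 : (1 : Matrix α α ℝ).trace = v := by rw [Matrix.trace_one, hVv]
  have htC : C.trace = -((v : ℝ) - 1) * d - 2 * k := by
    rw [hC, trace_sub, trace_sub, trace_smul, trace_smul, trace_smul, htA, ht1, htJ]
    simp only [smul_eq_mul, hc]
    field_simp
    ring
  rw [hP, trace_add, trace_smul, trace_smul, hCC, trace_smul, trace_sub, trace_smul, ht1, htJ, htC] at hr
  simp only [smul_eq_mul] at hr
  set z : ℤ := 2 * (r : ℤ) - ((v : ℤ) - 1) with hz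
  have hr' : ((v : ℝ) - 1) / 2 + 1 / (2 * s) * (-((v : ℝ) - 1) * d - 2 * k) = r := by
    rw [← hr]
    field_simp
  have hz1 : (-((v : ℝ) - 1) * d - 2 * k) = s * (z : ℝ) := by
    rw [hz]
    push_cast
    rw [← hr']
    field_simp
    ring
  have hz2 : (srgTr v k lam mu) ^ 2 = srgDisc k lam mu * z ^ 2 := by
    have h1 : ((srgTr v k lam mu : ℤ) : ℝ) ^ 2 = (srgDisc k lam mu : ℝ) * (z : ℝ) ^ 2 := by
      have e : (srgDisc k lam mu : ℝ) = E := by simp [srgDisc, hE, hd]
      rw [e, ← hs2, show ((srgTr v k lam mu : ℤ) : ℝ) = -(-((v : ℝ) - 1) * d - 2 * k) by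
        simp [srgTr, hd]; ring, hz1]
      ring
    exact_mod_cast h1
  by_cases hz0 : z = 0
  · left
    rw [hz0] at hz2
    simpa using hz2
  right
  obtain ⟨w, hw⟩ : z ∣ srgTr v k lam mu :=
    (Int.pow_dvd_pow_iff two_ne_zero).1 ⟨srgDisc k lam mu, by rw [hz2, mul_comm]⟩
  refine ⟨w.natAbs, ?_, ?_⟩
  · rw [Int.natAbs_sq]
    refine mul_right_cancel₀ (pow_ne_zero 2 hz0) ?_
    rw [← hz2, hw]; ring
  · exact Int.natAbs_dvd.2 ⟨z, by rw [hw, mul_comm]⟩

variable {G : Type*} [Group G] [Finite G] {D : Set G}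

/-- The condition for the commuting graph of a class. -/
theorem Base.srg (h : Base D) (hconn : ConnectedComm D) {x z : G} (hx : x ∈ D) (hz : z ∈ nonc D x)
    {k lam mu : ℕ} (hk : (adj D x).ncard = k) (hlam : ∀ v ∈ adj D x, (common D x v).ncard = lam)
    (hmu : (common D x z).ncard = mu) (hpos : 0 < srgDisc k lam mu) :
    ∃ l : ℕ, k * (k - lam - 1) = l * mu ∧ (srgTr (1 + k + l) k lam mu = 0 ∨
      ∃ s : ℕ, (s : ℤ) ^ 2 = srgDisc k lam mu ∧ (s : ℤ) ∣ srgTr (1 + k + l) k lam mu) := by
  classical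
  refine ⟨(nonc D x).ncard, hmu ▸ h.count hconn hx hz hk hlam, ?_⟩
  have hval : ∀ (P : G → Prop), (∀ c, P c → c ∈ D) → {c : ↥D | P c}.ncard = {c | P c}.ncard := fun P hP => by
    rw [← Set.ncard_image_of_injective _ Subtype.val_injective]
    congr 1
    exact Set.ext fun c => ⟨by rintro ⟨c, hc, rfl⟩; exact hc, fun hc => ⟨⟨c, hP c hc⟩, hc, rfl⟩⟩
  have hD : Nat.card ↥D = 1 + k + (nonc D x).ncard := by
    have e : D = insert x (adj D x ∪ nonc D x) := by
      ext y
      refine ⟨fun hy => ?_, ?_⟩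
      · by_cases hc : Commute x y
        · by_cases hyx : y = x
          · exact Or.inl hyx
          · exact Or.inr (Or.inl ⟨hy, hyx, hc⟩)
        · exact Or.inr (Or.inr ⟨hy, hc⟩)
      · rintro (rfl | hy | hy)
        exacts [hx, hy.1, hy.1]
    rw [Nat.card_coe_set_eq]
    conv_lhs => rw [e]
    rw [Set.ncard_insert_of_notMem (by rintro (hy | hy); exacts [hy.2.1 rfl, hy.2 (Commute.refl x)]),
      Set.ncard_union_eq (Set.disjoint_left.2 fun y h1 h2 => h2.2 h1.2.2), hk]
    omega
  have : Nonempty ↥D := ⟨⟨x, hx⟩⟩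
  refine srg_param (fun a b : ↥D => (b : G) ∈ adj D a) (fun a b hab => mem_adj_symm a.2 hab)
    (fun a ha => ha.2.1 rfl) hD (fun a => ?_) (fun a b hab => ?_) (fun a b hne hab => ?_) hpos
  · rw [hval (fun c => c ∈ adj D (a : G)) fun c hc => hc.1]
    exact (ncard_adj_eq h.cls a.2 hx).trans hk
  · rw [hval (fun c => c ∈ adj D (a : G) ∧ c ∈ adj D (b : G)) fun c hc => hc.1.1]
    obtain ⟨v, hv⟩ := h.ne_of_conn hconn hx
    obtain ⟨g, hga, hgb⟩ := h.trans_comm hx hv a.2 hab
    show (common D (a : G) (b : G)).ncard = lam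
    rw [← hga, ← hgb, common_map h.conj,
      Set.ncard_image_of_injective _ fun u w e => mul_left_cancel (mul_right_cancel e), hlam v hv]
  · rw [hval (fun c => c ∈ adj D (a : G) ∧ c ∈ adj D (b : G)) fun c hc => hc.1.1]
    have hnc : ¬ Commute (a : G) b := fun hc => hab ⟨b.2, fun e => hne (Subtype.ext e.symm), hc⟩
    exact (h.common_ncard hconn a.2 b.2 hx hz.1 hnc hz.2).trans hmu

end Cfsg.Agent.FischerMain
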