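/-
Classes of 3-transpositions without affine planes: the natural module over the field with two elements.

Main definitions: `NoPlane D`, `Base D`, `SpModel D V`.
Main result: `Base.exists_model`.
-/
import Cfsg.Agent.Lib.ThreeTrans.Central
import Cfsg.Agent.Lib.FischerMain.Cotriangle
import Cfsg.Agent.Lib.SympGeom.Iso

set_option autoImplicit false

namespace Cfsg.Agent.FischerMain

open Cfsg Cfsg.Agent.ThreeTransRank Cfsg.Agent.ThreeTrans Relation

universe u

variable {G : Type u} [Group G] {D : Set G}

/-- No member fails to commute with all three members of a line. -/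
def NoPlane (D : Set G) : Prop :=
  ∀ a ∈ D, ∀ b ∈ D, ¬ Commute a b → ∀ e ∈ D, ¬ Commute e a → ¬ Commute e b → Commute e (a * b * a)

/-- A generating class of 3-transpositions in a group with trivial radical. -/
structure Base (D : Set G) : Prop where
  cls : IsThreeTranspositionClass D
  rad : TrivialRadical G
  two : ∃ a ∈ D, ∃ b ∈ D, a ≠ b

/-- The natural module of a class without planes. -/
structure SpModel (D : Set G) (V : Type u) [AddCommGroup V] [Module (ZMod 2) V] where
  /-- the form -/
  B : LinearMap.BilinForm (ZMod 2) V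
  /-- the vector of a member -/
  vec : G → V
  /-- the action -/
  ρ : G →* (V ≃ₗ[ZMod 2] V)
  ct : CT B (vec '' D)
  ρ_inj : Function.Injective ρ
  vec_inj : Set.InjOn vec D
  isom : ∀ g, ρ g ∈ SympGeom.isoGrp B
  ρ_vec : ∀ g, ∀ d ∈ D, ρ g (vec d) = vec (g * d * g⁻¹)
  ρ_apply : ∀ d ∈ D, ∀ x, ρ d x = x + B (vec d) x • vec d
  comm_iff : ∀ a ∈ D, ∀ b ∈ D, Commute a b ↔ B (vec a) (vec b) = 0

/-- The row of the non-commutation matrix. -/
noncomputable def row (D : Set G) (a : G) : ↥D → ZMod 2 := fun e => by
  classical exact if Commute a e then 0 else 1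

theorem row_eq_zero_iff {a : G} {e : ↥D} : row D a e = 0 ↔ Commute a (e : G) := by
  by_cases h : Commute a (e : G) <;> simp [row, h]

theorem row_comm {a b : G} (ha : a ∈ D) (hb : b ∈ D) : row D a ⟨b, hb⟩ = row D b ⟨a, ha⟩ := by
  by_cases h : Commute a b
  · simp [row, h, h.symm]
  · simp [row, h, show ¬ Commute b a from fun e => h e.symm]

namespace Base

variable (h : Base D)
include h

theorem set : IsThreeTranspositionSet D := h.cls.1

theorem grp : IsThreeTranspositionGroup D := group_of_class h.cls

theorem conj : ∀ g : G, ∀ d ∈ D, g * d * g⁻¹ ∈ D := h.grp.2.1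

theorem conj_mem' {d e : G} (hd : d ∈ D) (he : e ∈ D) : d * e * d ∈ D :=
  ThreeTrans.conj_mem h.set h.conj hd he

theorem center [Finite G] : Subgroup.center G = ⊥ := center_eq_bot_of_trivialRadical h.rad

theorem row_inj [Finite G] {a b : G} (ha : a ∈ D) (hb : b ∈ D) (he : row D a = row D b) : a = b := by
  refine vRel_eq h.cls h.two (centralCores_of_trivialRadical h.rad).1 ha hb fun e hmem => ?_
  rw [← row_eq_zero_iff (D := D) (e := ⟨e, hmem⟩), ← row_eq_zero_iff (D := D) (e := ⟨e, hmem⟩), he]

/-- The non-commuting graph of the class is connected. -/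
theorem linked [Finite G] {a b : G} (ha : a ∈ D) (hb : b ∈ D) :
    ReflTransGen (fun u v => u ∈ D ∧ v ∈ D ∧ ¬ Commute u v) a b := by
  set C : Set G := {u | ReflTransGen (fun u v => u ∈ D ∧ v ∈ D ∧ ¬ Commute u v) a u} with hC
  have hCD : ∀ u ∈ C, u ∈ D := by
    intro u hu
    induction hu with
    | refl => exact ha
    | tail _ huv _ => exact huv.2.1
  have hfix : ∀ d ∈ D, ∀ u ∈ C, d * u * d ∈ C := by
    intro d hd u hu
    by_cases hc : Commute d u
    · rwa [conj_conj_of_commute h.set hd hc]
    · have hd' : d ∈ C := ReflTransGen.tail hu ⟨hCD u hu, hd, fun e => hc e.symm⟩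
      refine ReflTransGen.tail hd' ⟨hd, h.conj_mem' hd (hCD u hu), fun e => hc ?_⟩
      have e' : Commute d (d * (d * u * d) * d) :=
        ((Commute.refl d).mul_right e).mul_right (Commute.refl d)
      simpa [mul_assoc, mul_self h.set hd, mul_self_cancel h.set hd] using e'
  have hall : ∀ g : G, ∀ u ∈ C, g * u * g⁻¹ ∈ C := by
    intro g
    have hg : g ∈ Subgroup.closure D := by rw [h.grp.2.2]; exact Subgroup.mem_top g
    induction hg using Subgroup.closure_induction'' with
    | mem d hd => intro u hu; rw [inv_eq h.set hd]; exact hfix d hd u hu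
    | inv_mem d hd => intro u hu; rw [inv_inv, inv_eq h.set hd]; exact hfix d hd u hu
    | one => intro u hu; simpa using hu
    | mul x y _ _ hx hy =>
      intro u hu
      have := hx _ (hy u hu)
      simpa [mul_assoc, mul_inv_rev] using this
  obtain ⟨g, hg⟩ := class_conj h.cls ha hb
  exact hg ▸ hall g a ReflTransGen.refl

theorem row_line (hp : NoPlane D) {a b : G} (ha : a ∈ D) (hb : b ∈ D) (hab : ¬ Commute a b) :
    row D (a * b * a) = row D a + row D b := by
  funext e
  have e1 : a * (a * b * a) * a = b := by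
    simp only [mul_assoc, mul_self h.set ha, mul_one, mul_self_cancel h.set ha]
  have e2 : b * (a * b * a) * b = a := by
    rw [braid h.set ha hb hab]
    simp only [mul_assoc, mul_self h.set hb, mul_one, mul_self_cancel h.set hb]
  have k1 : Commute a (e : G) → Commute b (e : G) → Commute (a * b * a) (e : G) :=
    fun c1 c2 => (c1.mul_left c2).mul_left c1
  have k2 : Commute a (e : G) → Commute (a * b * a) (e : G) → Commute b (e : G) := fun c1 c3 => by
    rw [← e1]; exact (c1.mul_left c3).mul_left c1
  have k3 : Commute b (e : G) → Commute (a * b * a) (e : G) → Commute a (e : G) := fun c2 c3 => by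
    rw [← e2]; exact (c2.mul_left c3).mul_left c2
  have two0 : (0 : ZMod 2) = 1 + 1 := by decide
  by_cases c1 : Commute a (e : G) <;> by_cases c2 : Commute b (e : G) <;>
    by_cases c3 : Commute (a * b * a) (e : G)
  all_goals first
    | (simp [row, c1, c2, c3, ← two0]; done)
    | exact absurd (k1 c1 c2) c3
    | exact absurd (k2 c1 c3) c2
    | exact absurd (k3 c2 c3) c1
    | exact absurd (hp a ha b hb hab e e.2 (fun hh => c1 hh.symm) fun hh => c2 hh.symm).symm c3

theorem row_conj (hp : NoPlane D) {d e : G} (hd : d ∈ D) (he : e ∈ D) :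
    row D (d * e * d⁻¹) = row D e + row D d ⟨e, he⟩ • row D d := by
  rw [inv_eq h.set hd]
  by_cases hc : Commute d e
  · rw [conj_conj_of_commute h.set hd hc]; simp [row, hc]
  · rw [h.row_line hp hd he hc, show row D d ⟨e, he⟩ = 1 by simp [row, hc], one_smul, add_comm]

theorem exists_model [Finite G] (hp : NoPlane D) :
    ∃ (V : Type u) (_ : AddCommGroup V) (_ : Module (ZMod 2) V) (_ : Finite V),
      Nonempty (SpModel D V) := by
  classical
  have : Fintype ↥D := Fintype.ofFinite _
  let T : (↥D → ZMod 2) →ₗ[ZMod 2] (↥D → ZMod 2) :=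
    { toFun := fun c e => ∑ a, c a * row D a e
      map_add' := fun c c' => funext fun e => by simp [add_mul, Finset.sum_add_distrib]
      map_smul' := fun k c => funext fun e => by simp [Finset.mul_sum, mul_assoc] }
  have Tsingle : ∀ a : ↥D, T (Pi.single a 1) = row D a := fun a => funext fun e => by
    simp [T, Pi.single_apply]
  set V := LinearMap.range T with hV
  have memV : ∀ a ∈ D, row D a ∈ V := fun a ha => ⟨_, Tsingle ⟨a, ha⟩⟩
  let vec : G → V := fun a => if ha : a ∈ D then ⟨row D a, memV a ha⟩ else 0
  have vec_coe : ∀ a ∈ D, (vec a : ↥D → ZMod 2) = row D a := fun a ha => by simp [vec, ha]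
  obtain ⟨S, hS⟩ := T.rangeRestrict.exists_rightInverse_of_surjective T.range_rangeRestrict
  have hS' : ∀ y : V, T (S y) = (y : ↥D → ZMod 2) := fun y =>
    congrArg Subtype.val (LinearMap.congr_fun hS y)
  let B : LinearMap.BilinForm (ZMod 2) V :=
    LinearMap.mk₂ (ZMod 2) (fun x y => ∑ a, S y a * (x : ↥D → ZMod 2) a)
      (fun x x' y => by simp [mul_add, Finset.sum_add_distrib])
      (fun k x y => by
        rw [smul_eq_mul, Finset.mul_sum]
        exact Finset.sum_congr rfl fun a _ => by
          show S y a * (k * (x : ↥D → ZMod 2) a) = _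
          ring)
      (fun x y y' => by simp [add_mul, Finset.sum_add_distrib])
      (fun k x y => by
        rw [smul_eq_mul, Finset.mul_sum, map_smul]
        exact Finset.sum_congr rfl fun a _ => by
          show k * S y a * (x : ↥D → ZMod 2) a = _
          ring)
  have hBT : ∀ x y : V, B x y = ∑ a, ∑ b, S y a * S x b * row D (b : G) a := by
    intro x y
    show ∑ a, S y a * (x : ↥D → ZMod 2) a = _
    refine Finset.sum_congr rfl fun a _ => ?_
    rw [← hS' x]
    simp [T, Finset.mul_sum, mul_assoc]
  have symm : ∀ x y, B x y = B y x := by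
    intro x y
    rw [hBT, hBT, Finset.sum_comm]
    refine Finset.sum_congr rfl fun a _ => Finset.sum_congr rfl fun b _ => ?_
    rw [show row D (a : G) b = row D (b : G) a from row_comm a.2 b.2, mul_comm (S y b)]
  have Bvec : ∀ (x : V) (a : G) (ha : a ∈ D), B (vec a) x = (x : ↥D → ZMod 2) ⟨a, ha⟩ := by
    intro x a ha
    show ∑ e, S x e * (vec a : ↥D → ZMod 2) e = _
    rw [vec_coe a ha, ← hS' x]
    exact Finset.sum_congr rfl fun e _ => by rw [row_comm (a := (e : G)) e.2 ha]
  have span : Submodule.span (ZMod 2) (vec '' D) = ⊤ := by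
    refine eq_top_iff.2 fun x _ => ?_
    have ex : x = ∑ a : ↥D, S x a • vec a := Subtype.ext <| funext fun e => by
      rw [← hS' x]
      simp [T, vec_coe]
    rw [ex]
    exact Submodule.sum_mem _ fun a _ => Submodule.smul_mem _ _ (Submodule.subset_span ⟨a, a.2, rfl⟩)
  have inj : Set.InjOn vec D := fun a ha b hb e =>
    h.row_inj ha hb (by rw [← vec_coe a ha, ← vec_coe b hb, e])
  have comm : ∀ a ∈ D, ∀ b ∈ D, Commute a b ↔ B (vec a) (vec b) = 0 := fun a ha b hb => by
    rw [Bvec _ a ha, vec_coe b hb, row_eq_zero_iff]; exact ⟨Commute.symm, Commute.symm⟩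
  have nd : ∀ x, (∀ y, B x y = 0) → x = 0 := fun x hx => Subtype.ext <| funext fun a => by
    have := hx (vec a)
    rwa [symm, Bvec _ _ a.2] at this
  have alt : ∀ x, B x x = 0 := by
    intro x
    have hx : x ∈ Submodule.span (ZMod 2) (vec '' D) := by rw [span]; exact Submodule.mem_top
    induction hx using Submodule.span_induction with
    | mem s hs =>
      obtain ⟨a, ha, rfl⟩ := hs
      exact (comm a ha a ha).1 (Commute.refl a)
    | zero => simp
    | add p q _ _ hp hq => simp [hp, hq, symm q p, CharTwo.add_self_eq_zero]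
    | smul k p _ hp => simp [hp]
  -- the action
  let act : G → (↥D → ZMod 2) → (↥D → ZMod 2) := fun g x e =>
    x ⟨g⁻¹ * e * g, by simpa using h.conj g⁻¹ e e.2⟩
  have hact : ∀ g a, act g (row D a) = row D (g * a * g⁻¹) := by
    intro g a
    funext e
    have : Commute a (g⁻¹ * (e : G) * g) ↔ Commute (g * a * g⁻¹) (e : G) := by
      constructor
      · intro hc
        have := hc.map (MulAut.conj g).toMonoidHom
        simpa [mul_assoc] using this
      · intro hc
        have := hc.map (MulAut.conj g⁻¹).toMonoidHom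
        simpa [mul_assoc] using this
    by_cases hc : Commute a (g⁻¹ * (e : G) * g)
    · simp [act, row, hc, this.1 hc]
    · simp [act, row, hc, show ¬ Commute (g * a * g⁻¹) (e : G) from fun e' => hc (this.2 e')]
  have hmem : ∀ (g : G) (x : V), act g x ∈ V := by
    intro g x
    have hx : x ∈ Submodule.span (ZMod 2) (vec '' D) := by rw [span]; exact Submodule.mem_top
    induction hx using Submodule.span_induction with
    | mem s hs =>
      obtain ⟨a, ha, rfl⟩ := hs
      rw [vec_coe a ha, hact]
      exact memV _ (h.conj g a ha)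
    | zero => exact V.zero_mem
    | add p q _ _ hp hq => exact V.add_mem hp hq
    | smul k p _ hp => exact V.smul_mem k hp
  have hactmul : ∀ g g' x, act (g * g') x = act g (act g' x) := by
    intro g g' x
    funext e
    simp only [act]
    congr 1
    exact Subtype.ext (by show _ = g'⁻¹ * (g⁻¹ * (e : G) * g) * g'; group)
  have hactone : ∀ x, act 1 x = x := by intro x; funext e; simp [act]
  let ρ : G →* (V ≃ₗ[ZMod 2] V) :=
    { toFun := fun g =>
        { toFun := fun x => ⟨act g x, hmem g x⟩
          map_add' := fun x y => rfl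
          map_smul' := fun c x => rfl
          invFun := fun x => ⟨act g⁻¹ x, hmem g⁻¹ x⟩
          left_inv := fun x => Subtype.ext (by
            show act g⁻¹ (act g x) = x; rw [← hactmul, inv_mul_cancel, hactone])
          right_inv := fun x => Subtype.ext (by
            show act g (act g⁻¹ x) = x; rw [← hactmul, mul_inv_cancel, hactone]) }
      map_one' := LinearEquiv.ext fun x => Subtype.ext (hactone _)
      map_mul' := fun g g' => LinearEquiv.ext fun x => Subtype.ext (hactmul g g' _) }
  have hρv : ∀ g, ∀ a ∈ D, ρ g (vec a) = vec (g * a * g⁻¹) := fun g a ha => Subtype.ext (by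
    show act g (vec a) = _
    rw [vec_coe a ha, vec_coe _ (h.conj g a ha), hact])
  have ρapp : ∀ d ∈ D, ∀ x, ρ d x = x + B (vec d) x • vec d := by
    intro d hd x
    have hx : x ∈ Submodule.span (ZMod 2) (vec '' D) := by rw [span]; exact Submodule.mem_top
    induction hx using Submodule.span_induction with
    | mem s hs =>
      obtain ⟨a, ha, rfl⟩ := hs
      rw [hρv d a ha]
      apply Subtype.ext
      rw [Submodule.coe_add, Submodule.coe_smul, vec_coe _ (h.conj d a ha), vec_coe a ha, vec_coe d hd,
        h.row_conj hp hd ha, Bvec _ d hd, vec_coe a ha, row_comm (a := d) hd ha]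
    | zero => simp
    | add p q _ _ hp hq => simp only [map_add, hp, hq, add_smul]; abel
    | smul k p _ hp => simp only [map_smul, hp, smul_add, smul_smul, smul_eq_mul]
  have hinj : Function.Injective ρ := by
    refine (injective_iff_map_eq_one ρ).2 fun g hg => ?_
    have hcen : g ∈ Subgroup.center G := commute_all_of_gen h.cls.2.2 fun e he => by
      have h2 := hρv g e he
      rw [hg] at h2
      have h3 : g * e * g⁻¹ = e := inj (h.conj g e he) he h2.symm
      show e * g = g * e
      calc e * g = g * e * g⁻¹ * g := by rw [h3]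
        _ = g * e := by group
    rwa [h.center, Subgroup.mem_bot] at hcen
  have iso : ∀ g, ρ g ∈ SympGeom.isoGrp B := by
    intro g x y
    have hy : y ∈ Submodule.span (ZMod 2) (vec '' D) := by rw [span]; exact Submodule.mem_top
    induction hy using Submodule.span_induction with
    | mem s hs =>
      obtain ⟨a, ha, rfl⟩ := hs
      rw [hρv g a ha, symm, symm x, Bvec _ _ (h.conj g a ha), Bvec _ _ ha]
      show act g x _ = _
      simp only [act]
      exact congrArg _ (Subtype.ext (by show g⁻¹ * (g * a * g⁻¹) * g = a; group))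
    | zero => simp
    | add p q _ _ hp hq => simp [hp, hq]
    | smul k p _ hp => simp [hp]
  refine ⟨V, inferInstance, inferInstance, inferInstance, ⟨⟨B, vec, ρ, ?_, hinj, inj, iso, hρv, ρapp,
    comm⟩⟩⟩
  refine ⟨alt, nd, ?_, span, ?_, ?_⟩
  · rintro ⟨a, ha, e⟩
    obtain ⟨f, hf, hne⟩ := exists_not_commute h.cls h.two ha
    exact hne ((comm a ha f hf).2 (by simp [e]))
  · rintro _ ⟨a, ha, rfl⟩ _ ⟨b, hb, rfl⟩ e
    have hab : ¬ Commute a b := fun hc => by rw [(comm a ha b hb).1 hc] at e; exact zero_ne_one e
    refine ⟨a * b * a, h.conj_mem' ha hb, Subtype.ext ?_⟩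
    rw [Submodule.coe_add, vec_coe _ (h.conj_mem' ha hb), vec_coe a ha, vec_coe b hb, h.row_line hp ha hb hab]
  · rintro _ ⟨a, ha, rfl⟩ _ ⟨b, hb, rfl⟩
    refine (h.linked ha hb).lift vec fun u v huv => ⟨⟨u, huv.1, rfl⟩, ⟨v, huv.2.1, rfl⟩, ?_⟩
    exact z2_eq_one fun e => huv.2.2 ((comm u huv.1 v huv.2.1).2 e)

end Base

end Cfsg.Agent.FischerMain
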