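/-
Classes of 3-transpositions without affine planes: the groups.

Main result: `Base.noPlane_classify`.
-/
import Cfsg.Agent.Lib.FischerMain.Model
import Cfsg.Agent.Lib.ThreeTrans.SymmPresentation
import Cfsg.Agent.Lib.TransvGroup.Generation
import Cfsg.Agent.Lib.Linear.AltObstruction
import Cfsg.Agent.Lib.Orth.ThreeTwo
import Cfsg.Agent.Lib.Orth.EvenSymp
import Cfsg.Agent.Lib.Forms.BinaryType
import Cfsg.Agent.Lib.Frobenius.SolvableAut

set_option autoImplicit false

namespace Cfsg.Agent.FischerMain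

open Cfsg Cfsg.Agent.ThreeTransRank Cfsg.Agent.ThreeTrans Relation
open QuadraticMap (polar)

universe u

variable {G : Type u} [Group G] {D : Set G}
variable {V : Type u} [AddCommGroup V] [Module (ZMod 2) V]

namespace SpModel

variable (m : SpModel D V)

theorem mem_S {d : G} (hd : d ∈ D) : m.vec d ∈ m.vec '' D := ⟨d, hd, rfl⟩

theorem ρ_mem (g : G) {x : V} (hx : x ∈ m.vec '' D) (h : Base D) : m.ρ g x ∈ m.vec '' D := by
  obtain ⟨a, ha, rfl⟩ := hx
  exact ⟨_, h.conj g a ha, (m.ρ_vec g a ha).symm⟩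

/-- A group isomorphism from a representation: a member goes to a target element. -/
theorem image_eq {H : Type*} [Group H] (e : G ≃* H) (T : Set H) (h1 : ∀ d ∈ D, e d ∈ T)
    (h2 : ∀ t ∈ T, ∃ d ∈ D, e d = t) : e '' D = T :=
  Set.ext fun t => ⟨fun ⟨d, hd, e'⟩ => e' ▸ h1 d hd, fun ht => by
    obtain ⟨d, hd, e'⟩ := h2 t ht; exact ⟨d, hd, e'⟩⟩

/-- All non-zero vectors: the symplectic group. -/
theorem equiv_sp [Finite V] (hall : m.vec '' D = {x | x ≠ 0}) :
    ∃ k : ℕ, Module.finrank (ZMod 2) V = k + k ∧ ∃ e : G ≃* Matrix.symplecticGroup (Fin k) (ZMod 2),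
      e '' D = {g : Matrix.symplecticGroup (Fin k) (ZMod 2) |
        ((g : Matrix (Fin k ⊕ Fin k) (Fin k ⊕ Fin k) (ZMod 2)) - 1).rank = 1} := by
  classical
  obtain ⟨k, hk⟩ := Linear.even_finrank_of_alt_nondeg _ m.B m.ct.alt m.ct.nondeg rfl
  obtain ⟨Φ, hΦ⟩ := SympGeom.exists_sympEquiv (m := k) m.B m.ct.alt m.ct.nondeg (by rw [hk]; ring)
  let φ : G →* SympGeom.isoGrp m.B := m.ρ.codRestrict _ m.isom
  have hinj : Function.Injective φ := fun g g' e => m.ρ_inj (congrArg Subtype.val e)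
  have hsurj : Function.Surjective φ := by
    intro f
    have hf : (f : V ≃ₗ[ZMod 2] V) ∈ m.ρ.range := by
      refine TransvGroup.sp_mem m.B m.ct.alt
        ⟨fun x hx => m.ct.nondeg x hx, fun y hy => m.ct.nondeg y fun x => by rw [m.ct.symm]; exact hy x⟩
        m.ρ.range (fun a c => ?_) f.2
      rcases z2_cases c with rfl | rfl
      · exact ⟨1, one_mem _, fun x => by simp⟩
      by_cases ha : a = 0
      · exact ⟨1, one_mem _, fun x => by simp [ha]⟩
      obtain ⟨d, hd, rfl⟩ : a ∈ m.vec '' D := by rw [hall]; exact ha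
      refine ⟨m.ρ d, ⟨d, rfl⟩, fun x => ?_⟩
      rw [m.ρ_apply d hd, one_smul]
    obtain ⟨g, hg⟩ := hf
    exact ⟨g, Subtype.ext hg⟩
  let e : G ≃* Matrix.symplecticGroup (Fin k) (ZMod 2) :=
    (MulEquiv.ofBijective φ ⟨hinj, hsurj⟩).trans
      ((SympGeom.isoGrpCongr Φ hΦ).symm.trans (SympGeom.spIso k (ZMod 2)).symm)
  have he : ∀ g x, ((e g : Matrix.symplecticGroup (Fin k) (ZMod 2)) :
      Matrix (Fin k ⊕ Fin k) (Fin k ⊕ Fin k) (ZMod 2)).mulVec x = Φ.symm (m.ρ g (Φ x)) := by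
    intro g x
    show (LinearMap.toMatrix' _).mulVec x = _
    rw [LinearMap.toMatrix'_mulVec]
    rfl
  refine ⟨k, hk, e, image_eq e _ ?_ ?_⟩
  · intro d hd
    have hne : Φ.symm (m.vec d) ≠ 0 := fun e' => m.ct.zero ⟨d, hd, by simpa using e'⟩
    show Module.finrank (ZMod 2) (LinearMap.range ((_ : Matrix _ _ (ZMod 2)).mulVecLin)) = 1
    rw [show LinearMap.range (((e d : Matrix.symplecticGroup (Fin k) (ZMod 2)) :
        Matrix (Fin k ⊕ Fin k) (Fin k ⊕ Fin k) (ZMod 2)) - 1).mulVecLin =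
        Submodule.span (ZMod 2) {Φ.symm (m.vec d)} from ?_]
    · exact finrank_span_singleton hne
    ext w
    rw [LinearMap.mem_range, Submodule.mem_span_singleton]
    have hx : ∀ x, (((e d : Matrix.symplecticGroup (Fin k) (ZMod 2)) :
        Matrix (Fin k ⊕ Fin k) (Fin k ⊕ Fin k) (ZMod 2)) - 1).mulVecLin x =
        m.B (m.vec d) (Φ x) • Φ.symm (m.vec d) := by
      intro x
      rw [Matrix.mulVecLin_apply, Matrix.sub_mulVec, Matrix.one_mulVec, he, m.ρ_apply d hd]
      simp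
    constructor
    · rintro ⟨x, rfl⟩; exact ⟨_, (hx x).symm⟩
    · rintro ⟨c, rfl⟩
      obtain ⟨y, hy, hy'⟩ := m.ct.exists_link (x := m.vec d) fun e' => hne (by simp [e'])
      refine ⟨c • Φ.symm y, ?_⟩
      rw [hx, map_smul, LinearEquiv.apply_symm_apply, map_smul, smul_eq_mul, m.ct.symm, hy', mul_one]
  · intro t ht
    obtain ⟨g, rfl⟩ := e.surjective t
    refine ⟨g, ?_, rfl⟩
    obtain ⟨⟨w, x1, hx1⟩, hw0, hspan⟩ := finrank_eq_one_iff'.1 ht
    have hw : w ≠ 0 := fun e' => hw0 (Subtype.ext e')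
    set a := Φ w
    have ha0 : a ≠ 0 := by simpa [a] using hw
    have key : ∀ z, m.ρ g z = z ∨ m.ρ g z = z + a := by
      intro z
      obtain ⟨c, hc⟩ := hspan ⟨_, LinearMap.mem_range_self _ (Φ.symm z)⟩
      have hc' := congrArg (fun v : LinearMap.range _ => Φ (v : Fin k ⊕ Fin k → ZMod 2)) hc
      simp only [Submodule.coe_smul, map_smul] at hc'
      rw [Matrix.mulVecLin_apply, Matrix.sub_mulVec, Matrix.one_mulVec, he, map_sub,
        LinearEquiv.apply_symm_apply, LinearEquiv.apply_symm_apply] at hc'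
      rcases z2_cases c with rfl | rfl
      · left; rw [zero_smul] at hc'; exact sub_eq_zero.1 hc'.symm
      · right; rw [one_smul] at hc'
        exact sub_eq_iff_eq_add'.1 hc'.symm
    have hiso := SympGeom.mem_isoGrp.1 (m.isom g)
    have fixperp : ∀ z, m.ρ g z = z → m.B a z = 0 := by
      intro z hz
      obtain ⟨y, hy⟩ : ∃ y, m.ρ g y = y + a := by
        by_contra hcon
        have h1 : ∀ y, m.ρ g y = y := fun y => (key y).resolve_right fun e' => hcon ⟨y, e'⟩
        apply hw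
        rw [Matrix.mulVecLin_apply, Matrix.sub_mulVec, Matrix.one_mulVec, he, h1,
          LinearEquiv.symm_apply_apply, sub_self] at hx1
        exact hx1.symm
      have := hiso z y
      rw [hz, hy, map_add] at this
      rw [m.ct.symm]
      simpa using this
    have moved : ∀ z, m.ρ g z = z + a → m.B a z = 1 := by
      intro y hy
      refine z2_eq_one fun h0 => ha0 (m.ct.nondeg a fun z => ?_)
      rcases key z with hz | hz
      · exact fixperp z hz
      · have := hiso y z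
        rw [hy, hz] at this
        simpa [m.ct.alt, h0, m.ct.symm y a] using this
    obtain ⟨d, hd, hda⟩ : a ∈ m.vec '' D := by rw [hall]; exact ha0
    suffices g = d from this ▸ hd
    refine m.ρ_inj (LinearEquiv.ext fun z => ?_)
    rw [m.ρ_apply d hd, hda]
    rcases key z with hz | hz
    · rw [hz, fixperp z hz, zero_smul, add_zero]
    · rw [hz, moved z hz, one_smul]

/-- The members of a quadric: an orthogonal group. -/
theorem equiv_isometry (h : Base D) {ι : Type} [Fintype ι] [DecidableEq ι]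
    (Qc : QuadraticForm (ZMod 2) (ι → ZMod 2)) (hnd : Qc.polarBilin.Nondegenerate)
    (hn : Fintype.card ι ≠ 4) (e : (ι → ZMod 2) ≃ₗ[ZMod 2] V)
    (hS : ∀ v, Qc v = 1 ↔ e v ∈ m.vec '' D) (hB : ∀ u v, polar Qc u v = m.B (e u) (e v))
    (f : (ι → ZMod 2) → ZMod 2) (hf : ∀ v, f v = Qc v) :
    ∃ φ : G ≃* ↥(isometryGroup (ZMod 2) f), φ '' D = {g : ↥(isometryGroup (ZMod 2) f) |
      (((g : GL ι (ZMod 2)) : Matrix ι ι (ZMod 2)) - 1).rank = 1} := by
  classical
  obtain rfl : f = ⇑Qc := funext hf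
  let L : G → ((ι → ZMod 2) →ₗ[ZMod 2] (ι → ZMod 2)) := fun g =>
    e.symm.toLinearMap ∘ₗ ((m.ρ g).toLinearMap ∘ₗ e.toLinearMap)
  have Lapp : ∀ g x, L g x = e.symm (m.ρ g (e x)) := fun _ _ => rfl
  let μ : G →* Matrix ι ι (ZMod 2) :=
    { toFun := fun g => LinearMap.toMatrix' (L g)
      map_one' := by
        rw [← LinearMap.toMatrix'_id]; congr 1; exact LinearMap.ext fun x => by simp [Lapp]
      map_mul' := fun g g' => by
        rw [← LinearMap.toMatrix'_comp]; congr 1; exact LinearMap.ext fun x => by simp [Lapp] }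
  let χ : G →* GL ι (ZMod 2) := μ.toHomUnits
  have hχ : ∀ g x, ((χ g : GL ι (ZMod 2)) : Matrix ι ι (ZMod 2)).mulVec x = L g x := fun g x =>
    LinearMap.toMatrix'_mulVec (L g) x
  have hmem : ∀ g, χ g ∈ isometryGroup (ZMod 2) ⇑Qc := by
    intro g x y
    show Qc (((χ g : GL ι (ZMod 2)) : Matrix ι ι (ZMod 2)).mulVec x) = Qc x
    rw [hχ]
    have : Qc (L g x) = 1 ↔ Qc x = 1 := by
      rw [hS, hS, Lapp, LinearEquiv.apply_symm_apply]
      refine ⟨fun hx => ?_, fun hx => m.ρ_mem g hx h⟩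
      have := m.ρ_mem g⁻¹ hx h
      rwa [← LinearEquiv.mul_apply, ← map_mul, inv_mul_cancel, map_one] at this
    rcases z2_cases (Qc x) with e1 | e1
    · rw [e1]; exact z2_eq_zero fun e2 => by rw [this.1 e2] at e1; exact one_ne_zero e1
    · rw [e1, this.2 e1]
  let ψ : G →* Orth.IsoGrp Qc := χ.codRestrict _ hmem
  have hap : ∀ g x, Orth.ap (ψ g) x = e.symm (m.ρ g (e x)) := fun g x => hχ g x
  have hrefl : ∀ d ∈ D, ψ d = Orth.refl Qc (e.symm (m.vec d)) := by
    intro d hd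
    refine Orth.ext_ap fun x => ?_
    have hQ : Qc (e.symm (m.vec d)) = 1 := (hS _).2 (by simpa using m.mem_S hd)
    rw [hap, m.ρ_apply d hd, Orth.refl_ap, hQ, inv_one, one_mul, ZModModule.sub_eq_add, hB]
    simp
  have hinj : Function.Injective ψ := by
    refine fun g g' eq => m.ρ_inj (LinearEquiv.ext fun z => e.symm.injective ?_)
    have := congrArg (fun k => Orth.ap k (e.symm z)) eq
    simpa [hap] using this
  have hsurj : Function.Surjective ψ := by
    rw [← MonoidHom.range_eq_top, eq_top_iff, ← Orth.closure_refl_eq_top hnd (Or.inr hn),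
      Orth.reflGen, Subgroup.closure_le]
    rintro _ ⟨v, rfl⟩
    rcases z2_cases (Qc v) with e1 | e1
    · rw [Orth.refl_eq_one Qc e1]; exact one_mem _
    · obtain ⟨d, hd, hdv⟩ := (hS v).1 e1
      exact ⟨d, by rw [hrefl d hd, hdv, LinearEquiv.symm_apply_apply]⟩
  refine ⟨MulEquiv.ofBijective ψ ⟨hinj, hsurj⟩, image_eq _ _ (fun d hd => ?_) fun t ht => ?_⟩
  · show (((ψ d : GL ι (ZMod 2)) : Matrix ι ι (ZMod 2)) - 1).rank = 1
    rw [hrefl d hd]
    refine Orth.rank_refl hnd ?_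
    rw [(hS _).2 (by simpa using m.mem_S hd)]; exact one_ne_zero
  · obtain ⟨v, hv, rfl⟩ := Orth.exists_refl_of_rank hnd t ht
    obtain ⟨d, hd, hdv⟩ := (hS v).1 (z2_eq_one hv)
    exact ⟨d, hd, by show ψ d = _; rw [hrefl d hd, hdv, LinearEquiv.symm_apply_apply]⟩

theorem six_le_finrank [Finite V] {w : Fin 3 → V} (hli : LinearIndependent (ZMod 2) w)
    (hperp : ∀ i j, m.B (w i) (w j) = 0) : 6 ≤ Module.finrank (ZMod 2) V := by
  let T : V →ₗ[ZMod 2] (Fin 3 → ZMod 2) := LinearMap.pi fun i => m.B (w i)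
  have hsurj : LinearMap.range T = ⊤ := by
    by_contra hne
    obtain ⟨f, hf, hker⟩ := Submodule.exists_le_ker_of_lt_top _ (lt_top_iff_ne_top.2 hne)
    apply hf
    have hz : ∑ i, f (Pi.single i 1) • w i = 0 := by
      refine m.ct.nondeg _ fun y => ?_
      have h0 : f (T y) = 0 := hker ⟨y, rfl⟩
      rw [pi_eq_sum_univ' (T y), map_sum] at h0
      simp only [map_sum, map_smul, LinearMap.sum_apply, LinearMap.smul_apply, smul_eq_mul] at h0 ⊢
      rw [← h0]
      exact Finset.sum_congr rfl fun i _ => by rw [mul_comm]; rfl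
    have := Fintype.linearIndependent_iff.1 hli _ hz
    exact LinearMap.pi_ext' fun i => LinearMap.ext_ring (by simpa using this i)
  have h1 := LinearMap.finrank_range_add_finrank_ker T
  rw [hsurj, finrank_top, Module.finrank_pi, Fintype.card_fin] at h1
  have h2 : Submodule.span (ZMod 2) (Set.range w) ≤ LinearMap.ker T := by
    rw [Submodule.span_le]
    rintro _ ⟨j, rfl⟩
    exact funext fun i => hperp i j
  have h3 := Submodule.finrank_mono h2
  rw [finrank_span_eq_card hli, Fintype.card_fin] at h3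
  omega

/-- Pairs of points: the symmetric group. -/
theorem equiv_perm [Finite G] (h : Base D) {n : ℕ} (p : Fin n → V) (hp : CT.Pairs m.B (m.vec '' D) p) :
    5 ≤ n ∧ ∃ e : G ≃* Equiv.Perm (Fin n), e '' D = {σ : Equiv.Perm (Fin n) | σ.IsSwap} := by
  classical
  obtain ⟨d0, hd0⟩ := h.two.imp fun a ha => ha.1
  obtain ⟨i0, j0, hij0, -⟩ : ∃ i j, i ≠ j ∧ m.vec d0 = p i + p j := by
    have := m.mem_S hd0; rwa [hp.eq] at this
  obtain ⟨k, rfl⟩ : ∃ k, n = k + 1 := ⟨n - 1, by have := i0.isLt; omega⟩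
  have pick : ∀ i j, i ≠ j → ∃ d ∈ D, m.vec d = p i + p j := by
    intro i j hij
    have : p i + p j ∈ m.vec '' D := by rw [hp.eq]; exact ⟨i, j, hij, rfl⟩
    exact this
  let t : ℕ → G := fun i => if hi : i < k then
    (pick (⟨i, hi⟩ : Fin k).castSucc (⟨i, hi⟩ : Fin k).succ (Fin.castSucc_lt_succ).ne).choose else 1
  have ht : ∀ i : Fin k, t i ∈ D ∧ m.vec (t i) = p i.castSucc + p i.succ := fun i => by
    simp only [t, dif_pos i.isLt]
    exact (pick _ _ (Fin.castSucc_lt_succ).ne).choose_spec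
  have hbr : BraidA t k := by
    refine ⟨fun i hi => mul_self h.set (ht ⟨i, hi⟩).1, fun i hi => ?_, fun i j hij hj => ?_⟩
    · have h0 := ht ⟨i, by omega⟩
      have h1 := ht ⟨i + 1, hi⟩
      refine braid h.set h0.1 h1.1 fun hc => ?_
      have := (m.comm_iff _ h0.1 _ h1.1).1 hc
      rw [h0.2, h1.2, add_comm (p _) (p (Fin.succ ⟨i, _⟩))] at this
      have e : (⟨i + 1, hi⟩ : Fin k).castSucc = (⟨i, by omega⟩ : Fin k).succ := Fin.ext rfl
      rw [e, hp.share _ _ _ (by simp [Fin.ext_iff]) (by simp [Fin.ext_iff]) (by simp [Fin.ext_iff]; omega)]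
        at this
      exact one_ne_zero this
    · have h0 := ht ⟨i, by omega⟩
      have h1 := ht ⟨j, hj⟩
      refine (m.comm_iff _ h0.1 _ h1.1).2 ?_
      rw [h0.2, h1.2]
      exact hp.apart _ _ _ _ (by simp [Fin.ext_iff]) (by simp [Fin.ext_iff]; omega)
        (by simp [Fin.ext_iff]; omega) (by simp [Fin.ext_iff]; omega) (by simp [Fin.ext_iff]; omega)
        (by simp [Fin.ext_iff])
  obtain ⟨φ, hφ⟩ := exists_hom_perm hbr
  have hgen : ∀ (c : Fin k) (i j : Fin (k + 1)), i ≠ j → m.ρ (t c) (p i + p j) =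
      p (Equiv.swap c.castSucc c.succ i) + p (Equiv.swap c.castSucc c.succ j) := by
    intro c i j hij
    obtain ⟨hcD, hcv⟩ := ht c
    rw [m.ρ_apply _ hcD, hcv]
    set a := c.castSucc
    set b := c.succ
    have hab : a ≠ b := (Fin.castSucc_lt_succ).ne
    by_cases hia : i = a
    · subst hia
      by_cases hjb : j = b
      · subst hjb
        rw [Equiv.swap_apply_left, Equiv.swap_apply_right, m.ct.alt, zero_smul, add_zero, add_comm]
      · rw [Equiv.swap_apply_left, Equiv.swap_apply_of_ne_of_ne hij.symm hjb,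
          hp.share _ _ _ hab hij (Ne.symm hjb), one_smul,
          show p a + p j + (p a + p b) = (p a + p a) + (p b + p j) by abel, vadd_self, zero_add]
    by_cases hib : i = b
    · subst hib
      by_cases hja : j = a
      · subst hja
        rw [Equiv.swap_apply_left, Equiv.swap_apply_right, add_comm (p b) (p a), m.ct.alt, zero_smul,
          add_zero]
      · rw [Equiv.swap_apply_right, Equiv.swap_apply_of_ne_of_ne hja hij.symm, add_comm (p a) (p b),
          hp.share _ _ _ hab.symm hij (Ne.symm hja), one_smul,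
          show p b + p j + (p b + p a) = (p b + p b) + (p a + p j) by abel, vadd_self, zero_add]
    rw [Equiv.swap_apply_of_ne_of_ne hia hib]
    by_cases hja : j = a
    · subst hja
      rw [Equiv.swap_apply_left, add_comm (p i) (p a), hp.share _ _ _ hab (Ne.symm hia) (Ne.symm hib),
        one_smul, show p a + p i + (p a + p b) = (p a + p a) + (p i + p b) by abel, vadd_self, zero_add]
    by_cases hjb : j = b
    · subst hjb
      rw [Equiv.swap_apply_right, add_comm (p i) (p b), add_comm (p a) (p b),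
        hp.share _ _ _ hab.symm (Ne.symm hib) (Ne.symm hia), one_smul,
        show p b + p i + (p b + p a) = (p b + p b) + (p i + p a) by abel, vadd_self, zero_add]
    rw [Equiv.swap_apply_of_ne_of_ne hja hjb,
      hp.apart _ _ _ _ hab (Ne.symm hia) (Ne.symm hja) (Ne.symm hib) (Ne.symm hjb) hij, zero_smul, add_zero]
  have hact : ∀ σ : Equiv.Perm (Fin (k + 1)), ∀ i j, i ≠ j →
      m.ρ (φ σ) (p i + p j) = p (σ i) + p (σ j) := by
    intro σ
    have hσ : σ ∈ Submonoid.closure (Set.range fun i : Fin k => Equiv.swap i.castSucc i.succ) := by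
      rw [Equiv.Perm.mclosure_swap_castSucc_succ]; trivial
    induction hσ using Submonoid.closure_induction with
    | mem s hs =>
      obtain ⟨c, rfl⟩ := hs
      intro i j hij
      rw [hφ]; exact hgen c i j hij
    | one => intro i j _; simp
    | mul s s' _ _ h1 h2 =>
      intro i j hij
      rw [map_mul, map_mul, LinearEquiv.mul_apply, h2 i j hij, h1 _ _ (s'.injective.ne hij)]
      rfl
  have hswap : ∀ i j, i ≠ j → φ (Equiv.swap i j) ∈ D ∧ m.vec (φ (Equiv.swap i j)) = p i + p j := by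
    intro i j hij
    have hk : 0 < k := by
      by_contra hk
      have := Fin.ext_iff.not.1 hij
      omega
    have hne : (⟨0, hk⟩ : Fin k).castSucc ≠ (⟨0, hk⟩ : Fin k).succ := (Fin.castSucc_lt_succ).ne
    obtain ⟨σ, rfl, rfl⟩ := MulAction.is_two_pretransitive_iff.1
      (Equiv.Perm.isMultiplyPretransitive (Fin (k + 1)) 2) hne hij
    simp only [Equiv.Perm.smul_def] at *
    rw [show Equiv.swap (σ (⟨0, hk⟩ : Fin k).castSucc) (σ (⟨0, hk⟩ : Fin k).succ) =
      σ * Equiv.swap (⟨0, hk⟩ : Fin k).castSucc (⟨0, hk⟩ : Fin k).succ * σ⁻¹ by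
        rw [Equiv.mul_swap_eq_swap_mul, mul_inv_cancel_right], map_mul, map_mul, map_inv, hφ]
    obtain ⟨h1, h2⟩ := ht ⟨0, hk⟩
    exact ⟨h.conj _ _ h1, by rw [← m.ρ_vec _ _ h1, h2, hact σ _ _ hne]⟩
  have hDmem : ∀ d ∈ D, ∃ i j, i ≠ j ∧ φ (Equiv.swap i j) = d := by
    intro d hd
    obtain ⟨i, j, hij, hv⟩ : ∃ i j, i ≠ j ∧ m.vec d = p i + p j := by
      have := m.mem_S hd; rwa [hp.eq] at this
    exact ⟨i, j, hij, m.vec_inj (hswap i j hij).1 hd ((hswap i j hij).2.trans hv.symm)⟩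
  have hsurj : Function.Surjective φ := by
    rw [← MonoidHom.range_eq_top, eq_top_iff, ← h.grp.2.2, Subgroup.closure_le]
    intro d hd
    obtain ⟨i, j, -, e⟩ := hDmem d hd
    exact ⟨_, e⟩
  have h5 : 5 ≤ k + 1 := by
    by_contra hlt
    have hs : Group.IsSolvable (Equiv.Perm (Fin (k + 1))) :=
      Frobenius.isSolvable_perm_of_card_le (by rw [Nat.card_fin]; omega)
    have hsG : Group.IsSolvable G := Group.isSolvable_of_surjective hsurj
    have := h.rad ⊤ inferInstance inferInstance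
    exact ThreeTrans.ne_one h.set hd0 (by
      have hm : d0 ∈ (⊤ : Subgroup G) := Subgroup.mem_top _
      rw [this] at hm; exact Subgroup.mem_bot.1 hm)
  have hdist : ∀ i j a b, i ≠ j → a ≠ b → p i + p j = p a + p b → a = i ∨ a = j := by
    intro i j a b hij hab he
    by_contra hcon
    simp only [not_or] at hcon
    obtain ⟨hai, haj⟩ := hcon
    by_cases hbi : b = i
    · subst hbi
      have := hp.share b j a hij (Ne.symm hai) (Ne.symm haj)
      rw [he, add_comm (p a) (p b), m.ct.alt] at this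
      exact zero_ne_one this
    by_cases hbj : b = j
    · subst hbj
      have := hp.share b i a hij.symm (Ne.symm haj) (Ne.symm hai)
      rw [add_comm (p b) (p i), he, add_comm (p a) (p b), m.ct.alt] at this
      exact zero_ne_one this
    obtain ⟨c, hc⟩ : ∃ c, c ∉ ({i, j, a, b} : Finset (Fin (k + 1))) := by
      by_contra hcon
      have hu : ({i, j, a, b} : Finset (Fin (k + 1))) = Finset.univ :=
        Finset.eq_univ_iff_forall.2 fun c => not_not.1 fun hn => hcon ⟨c, hn⟩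
      have := congrArg Finset.card hu
      rw [Finset.card_univ, Fintype.card_fin] at this
      have : ({i, j, a, b} : Finset (Fin (k + 1))).card ≤ 4 := Finset.card_le_four
      omega
    simp only [Finset.mem_insert, Finset.mem_singleton, not_or] at hc
    have h1 := hp.share i j c hij (Ne.symm hc.1) (Ne.symm hc.2.1)
    rw [he, hp.apart a b i c hab hai (Ne.symm hc.2.2.1) hbi (Ne.symm hc.2.2.2) (Ne.symm hc.1)] at h1
    exact zero_ne_one h1
  have hinj : Function.Injective φ := by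
    refine (injective_iff_map_eq_one φ).2 fun σ hσ => Equiv.ext fun i => ?_
    have fix : ∀ i j, i ≠ j → p (σ i) + p (σ j) = p i + p j := fun i j hij => by
      rw [← hact σ i j hij, hσ, map_one]; rfl
    have hcard : 3 ≤ Fintype.card (Fin (k + 1)) := by rw [Fintype.card_fin]; omega
    obtain ⟨j, hj, hj'⟩ : ∃ j, j ≠ i ∧ j ≠ σ i := by
      obtain ⟨j, -, hj⟩ := Finset.exists_mem_notMem_of_card_lt_card
        (s := ({i, σ i} : Finset (Fin (k + 1)))) (t := Finset.univ)
        (lt_of_le_of_lt Finset.card_le_two (by rw [Finset.card_univ]; omega))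
      simp only [Finset.mem_insert, Finset.mem_singleton, not_or] at hj
      exact ⟨j, hj⟩
    rcases hdist _ _ _ _ hj.symm (σ.injective.ne hj.symm) (fix i j hj.symm).symm with e | e
    · exact e
    · exact absurd e (Ne.symm hj')
  refine ⟨h5, (MulEquiv.ofBijective φ ⟨hinj, hsurj⟩).symm, image_eq _ _ (fun d hd => ?_) fun t ht => ?_⟩
  · obtain ⟨i, j, hij, rfl⟩ := hDmem d hd
    exact ⟨i, j, hij, by rw [MulEquiv.symm_apply_eq]; rfl⟩
  · obtain ⟨i, j, hij, rfl⟩ := ht
    exact ⟨_, (hswap i j hij).1, by rw [MulEquiv.symm_apply_eq]; rfl⟩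

end SpModel

/-- The classes without planes, with the natural module in the symplectic case. -/
theorem Base.noPlane_cases [Finite G] (h : Base D) (hp : NoPlane D) :
    (∃ n : ℕ, 5 ≤ n ∧ ∃ e : G ≃* Equiv.Perm (Fin n), e '' D = {σ : Equiv.Perm (Fin n) | σ.IsSwap}) ∨
    (∃ (V : Type u) (_ : AddCommGroup V) (_ : Module (ZMod 2) V) (_ : Finite V) (m : SpModel D V),
      m.vec '' D = {x | x ≠ 0}) ∨
    (∃ k : ℕ, 3 ≤ k ∧ ∃ e : G ≃* ↥(isometryGroup (ZMod 2) (quadFormPlus k (ZMod 2))),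
      e '' D = {g : ↥(isometryGroup (ZMod 2) (quadFormPlus k (ZMod 2))) |
        (((g : GL (Fin k ⊕ Fin k) (ZMod 2)) : Matrix (Fin k ⊕ Fin k) (Fin k ⊕ Fin k) (ZMod 2)) - 1).rank = 1}) ∨
    (∃ k : ℕ, 2 ≤ k ∧ ∃ e : G ≃* ↥(isometryGroup (ZMod 2) (quadFormMinus k (ZMod 2) 1 1)),
      e '' D = {g : ↥(isometryGroup (ZMod 2) (quadFormMinus k (ZMod 2) 1 1)) |
        (((g : GL ((Fin k ⊕ Fin k) ⊕ Fin 2) (ZMod 2)) :
          Matrix ((Fin k ⊕ Fin k) ⊕ Fin 2) ((Fin k ⊕ Fin k) ⊕ Fin 2) (ZMod 2)) - 1).rank = 1}) := by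
  classical
  obtain ⟨V, i1, i2, i3, ⟨m⟩⟩ := h.exists_model hp
  obtain ⟨a, ha, -⟩ := h.two
  rcases m.ct.trichotomy ⟨_, m.mem_S ha⟩ with hall | ⟨Q, hpol, hQS, w, hli, hperp⟩ | ⟨ι, hι, p, hpairs⟩
  · exact .inr (.inl ⟨V, i1, i2, i3, m, hall⟩)
  · have h6 := m.six_le_finrank hli hperp
    obtain ⟨k, hk⟩ := Linear.even_finrank_of_alt_nondeg _ m.B m.ct.alt m.ct.nondeg rfl
    obtain ⟨l, rfl⟩ : ∃ l, k = l + 1 := ⟨k - 1, by omega⟩
    have hndQ : Q.polarBilin.Nondegenerate :=
      ⟨fun x hx => m.ct.nondeg x fun y => by rw [← hpol]; exact hx y,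
        fun y hy => m.ct.nondeg y fun x => by rw [m.ct.symm, ← hpol]; exact hy x⟩
    have aux : ∀ {κ : Type} [Fintype κ] [DecidableEq κ] (Qc : QuadraticForm (ZMod 2) (κ → ZMod 2))
        (e : (κ → ZMod 2) ≃ₗ[ZMod 2] V), (∀ v, Q (e v) = Qc v) → Qc.polarBilin.Nondegenerate ∧
        (∀ v, Qc v = 1 ↔ e v ∈ m.vec '' D) ∧ ∀ u v, polar Qc u v = m.B (e u) (e v) := by
      intro κ _ _ Qc e he
      have hB : ∀ u v, polar Qc u v = m.B (e u) (e v) := fun u v => by
        rw [← hpol]; simp only [polar, ← map_add, he]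
      refine ⟨⟨fun x hx => e.injective (by
          rw [map_zero]
          refine hndQ.1 _ fun y => ?_
          rw [← e.apply_symm_apply y]
          exact (hpol _ _).trans ((hB x (e.symm y)).symm.trans (hx _))),
        fun x hx => e.injective (by
          rw [map_zero]
          refine hndQ.2 _ fun y => ?_
          rw [← e.apply_symm_apply y]
          exact (hpol _ _).trans ((hB (e.symm y) x).symm.trans (hx _)))⟩,
        fun v => by rw [hQS, ← he]; rfl, hB⟩
    rcases Orth.classify_type Q hndQ (m := l) (by omega) Forms.aniso_one_one with ⟨-, e, he⟩ | ⟨-, e, he⟩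
    · obtain ⟨h1, h2, h3⟩ := aux _ e he
      exact .inr (.inr (.inl ⟨l + 1, by omega, m.equiv_isometry h _ h1 (by simp; omega) e h2 h3 _
        fun v => (Forms.qfPlus_apply _ v).symm⟩))
    · obtain ⟨h1, h2, h3⟩ := aux _ e he
      exact .inr (.inr (.inr ⟨l, by omega, m.equiv_isometry h _ h1 (by simp; omega) e h2 h3 _
        fun v => (Forms.qfMinus_apply _ _ _ v).symm⟩))
  · let e := Fintype.equivFin ι
    have hp' : CT.Pairs m.B (m.vec '' D) (p ∘ e.symm) := by
      refine ⟨hpairs.eq.trans (Set.ext fun x => ⟨?_, ?_⟩), fun i j k a b c => ?_,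
        fun i j k l a b c d f g => ?_⟩
      · rintro ⟨i, j, hij, rfl⟩; exact ⟨e i, e j, e.injective.ne hij, by simp⟩
      · rintro ⟨i, j, hij, rfl⟩; exact ⟨e.symm i, e.symm j, e.symm.injective.ne hij, rfl⟩
      · exact hpairs.share _ _ _ (e.symm.injective.ne a) (e.symm.injective.ne b) (e.symm.injective.ne c)
      · exact hpairs.apart _ _ _ _ (e.symm.injective.ne a) (e.symm.injective.ne b) (e.symm.injective.ne c)
          (e.symm.injective.ne d) (e.symm.injective.ne f) (e.symm.injective.ne g)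
    obtain ⟨h5, he⟩ := m.equiv_perm h _ hp'
    exact .inl ⟨_, h5, he⟩

/-- The classes without planes. -/
theorem Base.noPlane_classify [Finite G] (h : Base D) (hp : NoPlane D) :
    (∃ n : ℕ, 5 ≤ n ∧ ∃ e : G ≃* Equiv.Perm (Fin n), e '' D = {σ : Equiv.Perm (Fin n) | σ.IsSwap}) ∨
    (∃ k : ℕ, ∃ e : G ≃* Matrix.symplecticGroup (Fin k) (ZMod 2),
      e '' D = {g : Matrix.symplecticGroup (Fin k) (ZMod 2) |
        ((g : Matrix (Fin k ⊕ Fin k) (Fin k ⊕ Fin k) (ZMod 2)) - 1).rank = 1}) ∨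
    (∃ k : ℕ, 3 ≤ k ∧ ∃ e : G ≃* ↥(isometryGroup (ZMod 2) (quadFormPlus k (ZMod 2))),
      e '' D = {g : ↥(isometryGroup (ZMod 2) (quadFormPlus k (ZMod 2))) |
        (((g : GL (Fin k ⊕ Fin k) (ZMod 2)) : Matrix (Fin k ⊕ Fin k) (Fin k ⊕ Fin k) (ZMod 2)) - 1).rank = 1}) ∨
    (∃ k : ℕ, 2 ≤ k ∧ ∃ e : G ≃* ↥(isometryGroup (ZMod 2) (quadFormMinus k (ZMod 2) 1 1)),
      e '' D = {g : ↥(isometryGroup (ZMod 2) (quadFormMinus k (ZMod 2) 1 1)) |
        (((g : GL ((Fin k ⊕ Fin k) ⊕ Fin 2) (ZMod 2)) :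
          Matrix ((Fin k ⊕ Fin k) ⊕ Fin 2) ((Fin k ⊕ Fin k) ⊕ Fin 2) (ZMod 2)) - 1).rank = 1}) := by
  rcases h.noPlane_cases hp with hc | ⟨V, i1, i2, i3, m, hall⟩ | hc | hc
  · exact .inl hc
  · obtain ⟨k, -, he⟩ := m.equiv_sp hall
    exact .inr (.inl ⟨k, he⟩)
  · exact .inr (.inr (.inl hc))
  · exact .inr (.inr (.inr hc))

end Cfsg.Agent.FischerMain
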