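/-
Primitive classes with central local cores and without planes: symmetric groups of degree at least seven
and orthogonal groups over the field with two elements.

Main results: `central_of_primitive`, `Central.noPlane_cases`.
-/
import Cfsg.Agent.Lib.FischerMain.Setting
import Cfsg.Agent.Lib.FischerMain.NoPlaneGroups
import Cfsg.Agent.Lib.ThreeTrans.Structure

set_option autoImplicit false

namespace Cfsg.Agent.FischerMain

open Cfsg Cfsg.Agent.ThreeTransRank Cfsg.Agent.ThreeTrans
open QuadraticMap (polar)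

universe u

variable {G : Type u} [Group G] [Finite G] {D : Set G}

/-- A primitive class of width at least two with trivial centre and central local cores. -/
theorem central_of_primitive (hD : IsThreeTranspositionGroup D) (hprim : IsPrimitiveUnderConj D)
    (hZ : Subgroup.center G = ⊥) {d : G} (hd : d ∈ D) (hw : ∃ b ∈ D, b ≠ d ∧ Commute d b)
    (hloc : CentralCores ↥(Loc D d)) : Central D := by
  obtain ⟨b, hb, hne, hc⟩ := hw
  have hw' : ∃ a ∈ D, ∃ b ∈ D, a ≠ b ∧ Commute a b := ⟨d, hd, b, hb, hne.symm, hc⟩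
  have hcls := class_of_primitive hD hprim
  exact
    { cls := hcls
      rad := trivialRadical_of_center hD (centralCores_of_primitive hD hprim hw') hZ
      two := ⟨d, hd, b, hb, hne.symm⟩
      conn := connected_of_primitive hD hprim hw'
      ne := fun x hx => adj_nonempty_all hcls hd hx ⟨b, hb, hne, hc⟩
      loc := fun x hx => centralCores_loc_transport hcls hd hx hloc }

namespace Central

variable (h : Central D)
include h

/-- In a local group, members commuting with the same members are equal. -/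
theorem local_sep {a b c : G} (ha : a ∈ D) (hb : b ∈ adj D a) (hc : c ∈ adj D a)
    (hbc : ∀ e ∈ adj D a, Commute b e ↔ Commute c e) : b = c :=
  congrArg Subtype.val (vRel_eq (h.cls_loc ha) (h.two_loc ha) (h.loc a ha).1
    (d := ⟨b, Subgroup.subset_closure hb⟩) (v := ⟨c, Subgroup.subset_closure hc⟩) hb hc
    fun e he => by rw [commute_coe_iff, commute_coe_iff]; exact (hbc e he).symm)

/-- In a local group, members with the same neighbours are equal. -/
theorem local_sep_adj {a b c : G} (ha : a ∈ D) (hb : b ∈ adj D a) (hc : c ∈ adj D a)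
    (hbc : ∀ e ∈ adj D a, (e ≠ b ∧ Commute b e) ↔ (e ≠ c ∧ Commute c e)) : b = c :=
  congrArg Subtype.val (adj_inj (h.cls_loc ha) (h.two_loc ha) (h.loc a ha).2
    (d := ⟨b, Subgroup.subset_closure hb⟩) (v := ⟨c, Subgroup.subset_closure hc⟩) hb hc
    (Set.ext fun e => by
      constructor
      · rintro ⟨he, h1, h2⟩
        have := (hbc e he).1 ⟨fun e' => h1 (Subtype.ext e'), commute_coe_iff.1 h2⟩
        exact ⟨he, fun e' => this.1 (congrArg Subtype.val e'), commute_coe_iff.2 this.2⟩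
      · rintro ⟨he, h1, h2⟩
        have := (hbc e he).2 ⟨fun e' => h1 (Subtype.ext e'), commute_coe_iff.1 h2⟩
        exact ⟨he, fun e' => this.1 (congrArg Subtype.val e'), commute_coe_iff.2 this.2⟩))

theorem not_all {V : Type u} [AddCommGroup V] [Module (ZMod 2) V] (m : SpModel D V)
    (hall : m.vec '' D = {x | x ≠ 0}) : False := by
  obtain ⟨a, ha, -⟩ := h.two
  obtain ⟨b, hb⟩ := h.ne a ha
  have hab : m.B (m.vec a) (m.vec b) = 0 := (m.comm_iff a ha b hb.1).1 hb.2.2
  have hva : m.vec a ≠ 0 := fun e => m.ct.zero ⟨a, ha, e⟩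
  have hsum : m.vec a + m.vec b ≠ 0 := fun e => by
    apply hb.2.1
    refine m.vec_inj hb.1 ha ?_
    rw [← sub_eq_zero, ZModModule.sub_eq_add, add_comm]
    exact e
  obtain ⟨c, hc, ec⟩ : m.vec a + m.vec b ∈ m.vec '' D := by rw [hall]; exact hsum
  have hca : c ∈ adj D a := by
    refine ⟨hc, fun e => m.ct.zero ⟨b, hb.1, ?_⟩, (m.comm_iff a ha c hc).2 ?_⟩
    · rw [e] at ec; exact left_eq_add.1 ec
    · rw [ec, map_add, hab, add_zero]; exact m.ct.alt _
  have hbc : b = c := h.local_sep ha hb hca fun e he => by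
    rw [m.comm_iff b hb.1 e he.1, m.comm_iff c hc e he.1, ec, map_add, LinearMap.add_apply,
      (m.comm_iff a ha e he.1).1 he.2.2, zero_add]
  rw [hbc] at ec
  exact hva (right_eq_add.1 ec)

theorem not_perm_five (e : G ≃* Equiv.Perm (Fin 5))
    (he : e '' D = {σ : Equiv.Perm (Fin 5) | σ.IsSwap}) : False := by
  have mem : ∀ i j : Fin 5, i ≠ j → e.symm (Equiv.swap i j) ∈ D := fun i j hij => by
    obtain ⟨d, hd, e'⟩ : Equiv.swap i j ∈ e '' D := he ▸ ⟨i, j, hij, rfl⟩
    rw [← e', MulEquiv.symm_apply_apply]; exact hd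
  have cc : ∀ u v : Equiv.Perm (Fin 5), Commute (e.symm u) (e.symm v) ↔ u * v = v * u := fun u v =>
    ⟨fun k => e.symm.injective (by rw [map_mul, map_mul]; exact k.eq), fun k => Commute.map k e.symm⟩
  have hadj : ∀ k l : Fin 5, k ≠ l → k ≠ 0 → k ≠ 1 → l ≠ 0 → l ≠ 1 →
      e.symm (Equiv.swap k l) ∈ adj D (e.symm (Equiv.swap 0 1)) := fun k l hkl h1 h2 h3 h4 => by
    refine ⟨mem k l hkl, fun e' => ?_, (cc _ _).2 ?_⟩
    · have := Equiv.ext_iff.1 (e.symm.injective e') 0
      rw [Equiv.swap_apply_of_ne_of_ne h1.symm h3.symm, Equiv.swap_apply_left] at this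
      exact absurd this (by decide)
    · revert k l; decide +kernel
  have hb := hadj 2 3 (by decide) (by decide) (by decide) (by decide) (by decide)
  have hc := hadj 2 4 (by decide) (by decide) (by decide) (by decide) (by decide)
  have tab : ∀ i j : Fin 5, i ≠ j → Equiv.swap i j ≠ Equiv.swap 0 1 →
      Equiv.swap 0 1 * Equiv.swap i j = Equiv.swap i j * Equiv.swap 0 1 →
      ((Equiv.swap i j ≠ Equiv.swap 2 3 ∧ Equiv.swap 2 3 * Equiv.swap i j = Equiv.swap i j * Equiv.swap 2 3) ↔
        (Equiv.swap i j ≠ Equiv.swap 2 4 ∧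
          Equiv.swap 2 4 * Equiv.swap i j = Equiv.swap i j * Equiv.swap 2 4)) := by decide +kernel
  have := h.local_sep_adj (mem 0 1 (by decide)) hb hc fun y hy => by
    obtain ⟨i, j, hij, e'⟩ : (e y).IsSwap := by
      have : e y ∈ {σ : Equiv.Perm (Fin 5) | σ.IsSwap} := he ▸ ⟨y, hy.1, rfl⟩
      exact this
    obtain rfl : y = e.symm (Equiv.swap i j) := by rw [← e', MulEquiv.symm_apply_apply]
    rw [cc, cc, ne_eq, ne_eq, e.symm.injective.eq_iff, e.symm.injective.eq_iff]
    exact tab i j hij (fun k => hy.2.1 (congrArg e.symm k)) ((cc _ _).1 hy.2.2)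
  exact absurd (e.symm.injective this) (by decide)

theorem not_perm_six (e : G ≃* Equiv.Perm (Fin 6))
    (he : e '' D = {σ : Equiv.Perm (Fin 6) | σ.IsSwap}) : False := by
  have mem : ∀ i j : Fin 6, i ≠ j → e.symm (Equiv.swap i j) ∈ D := fun i j hij => by
    obtain ⟨d, hd, e'⟩ : Equiv.swap i j ∈ e '' D := he ▸ ⟨i, j, hij, rfl⟩
    rw [← e', MulEquiv.symm_apply_apply]; exact hd
  have cc : ∀ u v : Equiv.Perm (Fin 6), Commute (e.symm u) (e.symm v) ↔ u * v = v * u := fun u v =>
    ⟨fun k => e.symm.injective (by rw [map_mul, map_mul]; exact k.eq), fun k => Commute.map k e.symm⟩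
  have hb : e.symm (Equiv.swap 2 3) ∈ adj D (e.symm (Equiv.swap 0 1)) :=
    ⟨mem 2 3 (by decide), fun k => absurd (e.symm.injective k) (by decide), (cc _ _).2 (by decide)⟩
  have hc : e.symm (Equiv.swap 4 5) ∈ adj D (e.symm (Equiv.swap 0 1)) :=
    ⟨mem 4 5 (by decide), fun k => absurd (e.symm.injective k) (by decide), (cc _ _).2 (by decide)⟩
  have tab : ∀ i j : Fin 6, i ≠ j → Equiv.swap i j ≠ Equiv.swap 0 1 →
      Equiv.swap 0 1 * Equiv.swap i j = Equiv.swap i j * Equiv.swap 0 1 →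
      (Equiv.swap 2 3 * Equiv.swap i j = Equiv.swap i j * Equiv.swap 2 3 ↔
        Equiv.swap 4 5 * Equiv.swap i j = Equiv.swap i j * Equiv.swap 4 5) := by decide +kernel
  have := h.local_sep (mem 0 1 (by decide)) hb hc fun y hy => by
    obtain ⟨i, j, hij, e'⟩ : (e y).IsSwap := by
      have : e y ∈ {σ : Equiv.Perm (Fin 6) | σ.IsSwap} := he ▸ ⟨y, hy.1, rfl⟩
      exact this
    obtain rfl : y = e.symm (Equiv.swap i j) := by rw [← e', MulEquiv.symm_apply_apply]
    rw [cc, cc]
    exact tab i j hij (fun k => hy.2.1 (congrArg e.symm k)) ((cc _ _).1 hy.2.2)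
  exact absurd (e.symm.injective this) (by decide)

/-- The classes with central local cores and without planes. -/
theorem noPlane_cases (hp : NoPlane D) :
    (∃ n : ℕ, 7 ≤ n ∧ ∃ e : G ≃* Equiv.Perm (Fin n), e '' D = {σ : Equiv.Perm (Fin n) | σ.IsSwap}) ∨
    (∃ k : ℕ, 3 ≤ k ∧ ∃ e : G ≃* ↥(isometryGroup (ZMod 2) (quadFormPlus k (ZMod 2))),
      e '' D = {g : ↥(isometryGroup (ZMod 2) (quadFormPlus k (ZMod 2))) |
        (((g : GL (Fin k ⊕ Fin k) (ZMod 2)) : Matrix (Fin k ⊕ Fin k) (Fin k ⊕ Fin k) (ZMod 2)) - 1).rank = 1}) ∨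
    (∃ k : ℕ, 2 ≤ k ∧ ∃ e : G ≃* ↥(isometryGroup (ZMod 2) (quadFormMinus k (ZMod 2) 1 1)),
      e '' D = {g : ↥(isometryGroup (ZMod 2) (quadFormMinus k (ZMod 2) 1 1)) |
        (((g : GL ((Fin k ⊕ Fin k) ⊕ Fin 2) (ZMod 2)) :
          Matrix ((Fin k ⊕ Fin k) ⊕ Fin 2) ((Fin k ⊕ Fin k) ⊕ Fin 2) (ZMod 2)) - 1).rank = 1}) := by
  rcases h.toBase.noPlane_cases hp with ⟨n, hn, e, he⟩ | ⟨V, i1, i2, i3, m, hall⟩ | hc | hc
  · by_cases h5 : n = 5
    · subst h5; exact (h.not_perm_five e he).elim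
    by_cases h6 : n = 6
    · subst h6; exact (h.not_perm_six e he).elim
    exact .inl ⟨n, by omega, e, he⟩
  · exact (h.not_all m hall).elim
  · exact .inr (.inl hc)
  · exact .inr (.inr hc)

end Central

end Cfsg.Agent.FischerMain
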