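/-
A connected class with trivial radical and a plane is a class of unitary transvections or has central
local cores.

Main results: `Base.perfect`, `Base.unitary_or_central`.
-/
import Cfsg.Agent.Lib.FischerMain.Setting
import Cfsg.Agent.Lib.FischerPolar.Reduction
import Cfsg.Agent.Lib.ThreeTrans.Structure

set_option autoImplicit false

namespace Cfsg.Agent.FischerMain

open Cfsg Cfsg.Agent.ThreeTransRank Cfsg.Agent.ThreeTrans Cfsg.Agent.FischerPolar
open Cfsg.Agent.Components
open Cfsg.Agent.ThreeTrans.Polar (Pre pts)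

variable {G : Type*} [Group G] [Finite G] {D : Set G}

theorem Base.perfect (h : Base D) (hconn : ConnectedComm D) :
    ⁅commutator G, commutator G⁆ = commutator G := by
  obtain ⟨L, hL, hLn, -⟩ := exists_component h.cls h.two h.cores
  have e : commutator G = L := le_antisymm
    (commutator_le_of_index_le_two L (index_le_two_of_connected h.cls h.two h.cores hconn hL))
    (component_le_commutator hL)
  rw [e]
  exact IsComponent.perfect hL

theorem swaps_five : ∀ i j : Fin 5, i < j → ∀ k l : Fin 5, k < l →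
    Equiv.swap i j * Equiv.swap k l ≠ Equiv.swap k l * Equiv.swap i j → ∀ m p : Fin 5, m < p →
      Equiv.swap m p * Equiv.swap i j ≠ Equiv.swap i j * Equiv.swap m p →
      Equiv.swap m p * Equiv.swap k l ≠ Equiv.swap k l * Equiv.swap m p →
      Equiv.swap m p * (Equiv.swap i j * Equiv.swap k l * Equiv.swap i j) =
        Equiv.swap i j * Equiv.swap k l * Equiv.swap i j * Equiv.swap m p := by
  decide +kernel

theorem exists_swap_lt {σ : Equiv.Perm (Fin 5)} (h : σ.IsSwap) :
    ∃ i j : Fin 5, i < j ∧ σ = Equiv.swap i j := by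
  obtain ⟨i, j, hij, rfl⟩ := h
  rcases lt_or_gt_of_ne hij with hlt | hlt
  exacts [⟨i, j, hlt, rfl⟩, ⟨j, i, hlt, Equiv.swap_comm i j⟩]

/-- The transpositions of degree five have no planes. -/
theorem noPlane_of_perm_five (e : G ≃* Equiv.Perm (Fin 5))
    (he : e '' D = {σ : Equiv.Perm (Fin 5) | σ.IsSwap}) : NoPlane D := by
  intro a ha b hb hab t ht hta htb
  have sw : ∀ d ∈ D, (e d).IsSwap := fun d hd => by
    have : e d ∈ {σ : Equiv.Perm (Fin 5) | σ.IsSwap} := he ▸ ⟨d, hd, rfl⟩
    exact this
  obtain ⟨i, j, hij, ea⟩ := exists_swap_lt (sw a ha)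
  obtain ⟨k, l, hkl, eb⟩ := exists_swap_lt (sw b hb)
  obtain ⟨m, p, hmp, et⟩ := exists_swap_lt (sw t ht)
  have key : ∀ u v : G, Commute u v ↔ e u * e v = e v * e u := fun u v => by
    rw [← map_mul, ← map_mul, e.injective.eq_iff]; exact Iff.rfl
  rw [key, ea, eb] at hab
  rw [key, et, ea] at hta
  rw [key, et, eb] at htb
  rw [key, map_mul, map_mul, et, ea, eb]
  exact swaps_five i j hij k l hkl hab m p hmp hta htb

/-- A class with a plane: unitary, or with central local cores. -/
theorem Base.unitary_or_central (h : Base D) (hconn : ConnectedComm D) (hpl : ¬ NoPlane D) :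
    UKind G D ∨ Central D := by
  by_cases h2c : ∃ x ∈ D, ¬ pCore 2 ↥(Loc D x) ≤ Subgroup.center ↥(Loc D x)
  · obtain ⟨x, hx, hx2⟩ := h2c
    have hP := pre_of_not_central h.rad h.cls hconn hx hx2
    obtain ⟨b, hb, hne, hab⟩ := hP.adj_ne x hx
    rcases hP.pts_size hx hb hne.symm hab with h3 | h5
    · refine absurd (fun u hu w hw huw t ht htu htw => ?_) hpl
      have := ThreeTrans.Polar.Pre.not_none hP
        (fun c hc d hd hcd hcomm => by rw [hP.ncard_pts_eq hc hd hcd hcomm hx hb hne.symm hab, h3])
        hu hw huw ht htu htw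
      rwa [braid h.set hu hw huw]
    · obtain ⟨n, hn, e, he⟩ := equiv_psu_of_pre hP hx hb hne.symm hab h5
      exact Or.inl ⟨n, K, inferInstance, inferInstance, cardK, hn, e,
        by rw [he, transvections_eq_rankOne]⟩
  by_cases h3c : ∃ x ∈ D, ¬ pCore 3 ↥(Loc D x) ≤ Subgroup.center ↥(Loc D x)
  · obtain ⟨x, hx, hx3⟩ := h3c
    obtain ⟨e⟩ := CoreNoncentral.equiv_perm_five h.rad (h.perfect hconn) h.cls hx fun h' =>
      hx3 (SolvLocal.pCore_three_le_oddCore.trans h')
    exact absurd (noPlane_of_perm_five e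
      (swaps_of_class (by norm_num) swap_of_odd_involution h.cls e)) hpl
  simp only [not_exists, not_and, not_not] at h2c h3c
  exact Or.inr
    { toBase := h
      conn := hconn
      ne := fun x hx => h.ne_of_conn hconn hx
      loc := fun x hx => ⟨h2c x hx, h3c x hx⟩ }

end Cfsg.Agent.FischerMain
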