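/-
Fischer's theorem for classes with trivial radical and a plane.

Main results: `main`, `central_case`, `Central.classification`.
-/
import Cfsg.Agent.Lib.FischerMain.Reduce
import Cfsg.Agent.Lib.FischerPolar.SimpleCases
import Cfsg.Agent.Lib.FischerMain.Primitive
import Cfsg.Agent.Lib.FischerMain.O3.Main
import Cfsg.Agent.Lib.FischerMain.Unitary.Kind
import Cfsg.Agent.Lib.FischerMain.Unitary.FiveThree
import Cfsg.Agent.Lib.FischerMain.Unitary.NoFive
import Cfsg.Agent.Lib.FischerMain.Unitary.NoLarge
import Cfsg.Agent.Lib.FischerMain.Unitary.NoSeven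
import Cfsg.Agent.Lib.FischerMain.MChain.Type22
import Cfsg.Agent.Lib.FischerMain.MChain.Type23
import Cfsg.Agent.Lib.FischerMain.MChain.NoM24
import Cfsg.Agent.Lib.FischerMain.MChain.Type24
import Cfsg.Agent.Lib.FischerMain.Excl.NoPlane

set_option autoImplicit false

namespace Cfsg.Agent.FischerMain

open Cfsg Cfsg.Agent.ThreeTransRank Cfsg.Agent.ThreeTrans

universe u

variable {G : Type u} [Group G] [Finite G] {D : Set G}

/-- One step: the local classes decide the class. -/
theorem central_step (h : Central D) (hpl : ¬ NoPlane D)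
    (ih : ∀ x ∈ D, ¬ NoPlane (locQSet D x) → PlaneKind (LocQ D x) (locQSet D x)) : CentralKind G D := by
  obtain ⟨x, hx, -⟩ := h.two
  have o3 : ∀ {n : ℕ} {Q : QuadraticForm (ZMod 3) (Fin n → ZMod 3)} {c : ZMod 3}
      {ψ : (Fin n → ZMod 3) → G}, 5 ≤ n → Chart3 (adj D x) Q c ψ → CentralKind G D :=
    fun hn hch => Or.inl (o3Kind_of_local h.toBase h.conn hn hx hch)
  by_cases hp : NoPlane (locQSet D x)
  · obtain ⟨Q, c, ψ, hch⟩ := noPlane_local h hx hp hpl
    exact o3 le_rfl hch
  rcases ih x hx hp with hu | hO | h22 | h23 | h24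
  · obtain ⟨n, hn, F, iF, iT, f, hf⟩ := hu.exists_chart
    obtain ⟨pt, hch⟩ := ChartU.lift h hx hf
    rcases (show n = 4 ∨ n = 5 ∨ n = 6 ∨ n = 7 ∨ 8 ≤ n by omega) with rfl | rfl | rfl | rfl | h8
    · obtain ⟨Q, ψ, hψ⟩ := hch.chart3_four
      exact o3 le_rfl hψ
    · exact (no_local_five h hx pt hch).elim
    · exact Or.inr (Or.inl (type22_of_local h hx hch))
    · exact (no_local_seven h hx pt hch).elim
    · exact (no_local_large h hx h8 pt hch).elim
  · obtain ⟨n, hn, Q, c, f, hf⟩ := hO.exists_chart
    obtain ⟨ψ, hψ⟩ := Chart3.lift h hx hf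
    exact o3 hn hψ
  · exact Or.inr (Or.inr (Or.inl (type23_of_local h hx h22)))
  · exact Or.inr (Or.inr (Or.inr (type24_of_local h hx h23)))
  · exact (no_local_24 h hx h24).elim

theorem main_aux : ∀ (N : ℕ) {G : Type u} [Group G] [Finite G] {D : Set G}, Nat.card G = N →
    Base D → ConnectedComm D → ¬ NoPlane D → PlaneKind G D := by
  intro N
  induction N using Nat.strong_induction_on with
  | _ N ih =>
    intro G _ _ D hN hb hconn hpl
    rcases hb.unitary_or_central hconn hpl with hu | h
    · exact Or.inl hu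
    · exact Or.inr (central_step h hpl fun x hx hp =>
        ih _ (hN ▸ h.card_local hx) rfl (h.base_local hx) (h.conn_local hx) hp)

/-- A connected class with trivial radical having a plane. -/
theorem main (h : Base D) (hconn : ConnectedComm D) (hpl : ¬ NoPlane D) : PlaneKind G D :=
  main_aux (Nat.card G) rfl h hconn hpl

/-- A class with central local cores having a plane. -/
theorem central_case (h : Central D) (hpl : ¬ NoPlane D) : CentralKind G D :=
  central_step h hpl fun x hx hp => main (h.base_local hx) (h.conn_local hx) hp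

/-- The classes with central local cores. -/
theorem Central.classification (h : Central D) : FischerPolar.CentralConcl G D := by
  by_cases hp : NoPlane D
  · rcases h.noPlane_cases hp with hc | hc | hc
    · exact Or.inl hc
    · exact Or.inr (Or.inl (Or.inl hc))
    · exact Or.inr (Or.inl (Or.inr hc))
  · rcases central_case h hp with hc | hc
    · exact Or.inr (Or.inr (Or.inl hc))
    · exact Or.inr (Or.inr (Or.inr hc))

end Cfsg.Agent.FischerMain
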